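import Cfsg.Agent.Leech.Stab.Tri
import Cfsg.Agent.Leech.Stab.Data
import Cfsg.Agent.Leech.Triples

/-!
# Configurations of short vectors around vectors of norm 32 and 48
-/

set_option autoImplicit false
set_option linter.style.haveILetI false

namespace Cfsg.Lib.Leech.Stab

open Cfsg Cfsg.Lib.Golay Finset

/-- The base vector of norm 48, as an element. -/
abbrev bD : leechLattice := ⟨vD, mem_of_inL vD_ok.1⟩

theorem dec_kD : dec kD = vD := funext (by decide +kernel)
theorem dec_kP : dec kP = (bP : GolayPt → ℤ) := funext (by decide +kernel)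
theorem dec_kQ : dec kQ = (bQ : GolayPt → ℤ) := funext (by decide +kernel)

/-- The inner product with the first base vector, from a triple. -/
def dD (t : ℤ × ℤ × ℤ) : ℤ := t.1 + 4 * t.2.1
/-- The inner product with the second base vector, from a triple. -/
def dP (t : ℤ × ℤ × ℤ) : ℤ := 4 * (t.2.1 + 1 * t.2.2)
/-- The inner product with the third base vector, from a triple. -/
def dQ (t : ℤ × ℤ × ℤ) : ℤ := 4 * (t.2.1 + -1 * t.2.2)

theorem dots_tri (x : GolayPt → ℤ) :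
    dotInt (dec kD) x = dD (tri x) ∧ dotInt (dec kP) x = dP (tri x) ∧ dotInt (dec kQ) x = dQ (tri x) := by
  refine ⟨?_, ?_, ?_⟩
  · rw [dec_kD, dotInt, dD, tri]
    have e : ∀ p, vD p * x p = x p + if p = none then 4 * x p else 0 := fun p => by
      simp only [vD]; split <;> ring
    simp only [e, Finset.sum_add_distrib, Finset.sum_ite_eq', Finset.mem_univ, if_true]
  · rw [dec_kP]
    exact dot_pairVec pN pO 1 x
  · rw [dec_kQ]
    exact dot_pairVec pN pO (-1) x

theorem census1D (P : ℤ → Bool) :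
    {x : leechLattice | Cfsg.sqNorm (x : GolayPt → ℤ) = 32 ∧ P (dotInt (dec kD) x) = true}.ncard =
      countTri (fun t => P (dD t)) := by
  simp only [(dots_tri _).1]; exact censusTri fun t => P (dD t)

theorem census1P (P : ℤ → Bool) :
    {x : leechLattice | Cfsg.sqNorm (x : GolayPt → ℤ) = 32 ∧ P (dotInt (dec kP) x) = true}.ncard =
      countTri (fun t => P (dP t)) := by
  simp only [(dots_tri _).2.1]; exact censusTri fun t => P (dP t)

theorem census2P (P : ℤ × ℤ → Bool) :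
    {x : leechLattice | Cfsg.sqNorm (x : GolayPt → ℤ) = 32 ∧
      P (dotInt (dec kD) x, dotInt (dec kP) x) = true}.ncard = countTri (fun t => P (dD t, dP t)) := by
  simp only [(dots_tri _).1, (dots_tri _).2.1]; exact censusTri fun t => P (dD t, dP t)

theorem census2Q (P : ℤ × ℤ → Bool) :
    {x : leechLattice | Cfsg.sqNorm (x : GolayPt → ℤ) = 32 ∧
      P (dotInt (dec kD) x, dotInt (dec kQ) x) = true}.ncard = countTri (fun t => P (dD t, dQ t)) := by
  simp only [(dots_tri _).1, (dots_tri _).2.2]; exact censusTri fun t => P (dD t, dQ t)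

theorem census3 (P : ℤ × ℤ × ℤ → Bool) :
    {x : leechLattice | Cfsg.sqNorm (x : GolayPt → ℤ) = 32 ∧
      P (dotInt (dec kD) x, dotInt (dec kQ) x, dotInt (dec kP) x) = true}.ncard =
      countTri (fun t => P (dD t, dQ t, dP t)) := by
  simp only [(dots_tri _).1, (dots_tri _).2.1, (dots_tri _).2.2]; exact censusTri fun t => P (dD t, dQ t, dP t)

theorem transport (g : Co0) {A B : Set leechLattice} (h : ∀ x, x ∈ A ↔ g • x ∈ B) : A.ncard = B.ncard := by
  have e : B = (fun x => g • x) '' A := by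
    ext y
    refine ⟨fun hy => ⟨g⁻¹ • y, (h _).mpr (by rwa [smul_inv_smul]), smul_inv_smul g y⟩, ?_⟩
    rintro ⟨x, hx, rfl⟩
    exact (h x).mp hx
  rw [e, Set.ncard_image_of_injective _ (MulAction.injective g)]

theorem norm_smul' (g : Co0) (x : leechLattice) :
    Cfsg.sqNorm ((g • x : leechLattice) : GolayPt → ℤ) = Cfsg.sqNorm (x : GolayPt → ℤ) := g.2.2 x

theorem minSet_finite : Set.Finite {x : leechLattice | Cfsg.sqNorm (x : GolayPt → ℤ) = 32} :=
  Set.Finite.of_finite_image ((List.finite_toSet allVecs).subset (by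
    rintro _ ⟨x, hx, rfl⟩
    exact (allVecs_facts.2 (x : GolayPt → ℤ)).mpr ⟨x.2, hx⟩)) Subtype.val_injective.injOn

/-- Fixing the vectors of a list of keys. -/
def Fixes (fixed : List ℕ) (g : Co0) : Prop :=
  ∀ B ∈ fixed, ∀ v : leechLattice, (v : GolayPt → ℤ) = dec B → g • v = v

theorem Fixes.inv {fixed : List ℕ} {g : Co0} (h : Fixes fixed g) : Fixes fixed g⁻¹ :=
  fun B hB v hv => inv_smul_eq_iff.mpr (h B hB v hv).symm

theorem orbit_eq {fixed : List ℕ} {gens : List (List Atom)} {root n : ℕ} {t : NT}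
    (hfix : ∀ B ∈ fixed, Short B) (hroot : Short root) (ok : orbitOK fixed gens root n t = true)
    (S : Set leechLattice) (hfin : S.Finite) (hcard : S.ncard = n) (hr : ⟨dec root, hroot.1⟩ ∈ S)
    (hinv : ∀ g, Fixes fixed g → ∀ x ∈ S, g • x ∈ S) {y y' : leechLattice} (hy : y ∈ S) (hy' : y' ∈ S) :
    ∃ g, Fixes fixed g ∧ g • y = y' := by
  classical
  obtain ⟨hnd, hlen, hrel, hmem⟩ := orbit_sound hfix hroot ok
  have hsub : {x : leechLattice | (x : GolayPt → ℤ) ∈ t.vecs} ⊆ S := fun x hx => by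
    obtain ⟨g, hg, he⟩ := hrel _ hx
    have : x = g • (⟨dec root, hroot.1⟩ : leechLattice) := Subtype.ext (he ⟨dec root, hroot.1⟩ rfl).symm
    rw [this]
    exact hinv g hg _ hr
  have heq : {x : leechLattice | (x : GolayPt → ℤ) ∈ t.vecs} = S := by
    refine Set.eq_of_subset_of_ncard_le hsub ?_ hfin
    rw [hcard, ← hlen, ← List.toFinset_card_of_nodup hnd, ← Set.ncard_coe_finset,
      ← Set.ncard_image_of_injective {x : leechLattice | (x : GolayPt → ℤ) ∈ t.vecs} Subtype.val_injective]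
    refine Set.ncard_le_ncard (fun x hx => ?_) ((hfin.subset hsub).image _)
    have hx' := List.mem_toFinset.mp (Finset.mem_coe.mp hx)
    exact ⟨⟨x, hmem x hx'⟩, hx', rfl⟩
  rw [← heq] at hy hy'
  obtain ⟨g, hg, he⟩ := FixRel.trans (FixRel.symm hroot.1 (hrel _ hy)) (hrel _ hy')
  exact ⟨g, hg, Subtype.ext (he y rfl)⟩

theorem short_base : Short kD ∧ Short kP ∧ Short kQ ∧ Short treePRoot ∧ Short treeQ22Root ∧ Short treeQ77Root :=
  ⟨⟨mem_of_inL (by decide +kernel), by decide +kernel⟩, ⟨mem_of_inL (by decide +kernel), by decide +kernel⟩,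
    ⟨mem_of_inL (by decide +kernel), by decide +kernel⟩, ⟨mem_of_inL (by decide +kernel), by decide +kernel⟩,
    ⟨mem_of_inL (by decide +kernel), by decide +kernel⟩, ⟨mem_of_inL (by decide +kernel), by decide +kernel⟩⟩

theorem count_P16 : countTri (fun t => dP t == -16) = 4600 := by decide +kernel
theorem count_P8 : countTri (fun t => dP t == -8) = 47104 := by decide +kernel
theorem count_P0 : countTri (fun t => dP t == 0) = 93150 := by decide +kernel
theorem count_D : countTri (fun t => dD t == 24) = 552 := by decide +kernel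
theorem count_DP : countTri (fun t => dD t == 24 && dP t == 16) = 275 := by decide +kernel
theorem count_DQ : countTri (fun t => dD t == 24 && dQ t == 0) = 100 := by decide +kernel
theorem count_DQP22 : countTri (fun t => dD t == 24 && dQ t == 0 && dP t == 8) = 22 := by decide +kernel
theorem count_DQP77 : countTri (fun t => dD t == 24 && dQ t == 0 && dP t != 8 && dP t != 32) = 77 := by
  decide +kernel

theorem min_census (v : leechLattice) (hv : Cfsg.sqNorm (v : GolayPt → ℤ) = 32) (d : ℤ) :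
    {w : GolayPt → ℤ | w ∈ leechLattice ∧ Cfsg.sqNorm w = 32 ∧ dotInt (v : GolayPt → ℤ) w = d}.ncard =
      countTri (fun t => dP t == d) := by
  obtain ⟨g, hg⟩ := transitive32 v bP hv (pairVec_norm (by decide) (Or.inl rfl))
  have e : {w : GolayPt → ℤ | w ∈ leechLattice ∧ Cfsg.sqNorm w = 32 ∧ dotInt (v : GolayPt → ℤ) w = d} =
      Subtype.val '' {x : leechLattice | Cfsg.sqNorm (x : GolayPt → ℤ) = 32 ∧ dotInt (v : GolayPt → ℤ) x = d} := by
    ext w
    simp only [Set.mem_image, Set.mem_ofPred_eq]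
    exact ⟨fun ⟨h, h'⟩ => ⟨⟨w, h⟩, h', rfl⟩, by rintro ⟨x, hx, rfl⟩; exact ⟨x.2, hx⟩⟩
  rw [e, Set.ncard_image_of_injective _ Subtype.val_injective, ← census1P fun a => a == d]
  refine transport g fun x => ?_
  simp only [Set.mem_ofPred_eq, beq_iff_eq, norm_smul', dec_kP, ← hg, dot_smul]

theorem sub_norm_iff {u : GolayPt → ℤ} (hu : Cfsg.sqNorm u = 48) {x : GolayPt → ℤ} (hx : Cfsg.sqNorm x = 32) :
    Cfsg.sqNorm (u - x) = 32 ↔ dotInt u x = 24 := by
  rw [sqNorm_sub, hu, hx]; omega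

theorem six_census (u : leechLattice) (hu : Cfsg.sqNorm (u : GolayPt → ℤ) = 48) :
    {v : leechLattice | Cfsg.sqNorm (v : GolayPt → ℤ) = 32 ∧
      Cfsg.sqNorm ((u : GolayPt → ℤ) - (v : GolayPt → ℤ)) = 32}.ncard = 552 := by
  obtain ⟨g, hg⟩ := transitive48 u bD hu vD_ok.2.1
  rw [← count_D, ← census1D fun a => a == 24]
  refine transport g fun x => ?_
  simp only [Set.mem_ofPred_eq, beq_iff_eq, norm_smul']
  refine and_congr_right fun hx => ?_
  rw [sub_norm_iff hu hx, dec_kD, show vD = ((g • u : leechLattice) : GolayPt → ℤ) by rw [hg], dot_smul]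

theorem to_DP (u v : leechLattice) (hu : Cfsg.sqNorm (u : GolayPt → ℤ) = 48)
    (hv : Cfsg.sqNorm (v : GolayPt → ℤ) = 32) (huv : dotInt (u : GolayPt → ℤ) v = 24) :
    ∃ g : Co0, g • u = bD ∧ g • v = bP := by
  obtain ⟨g, hg⟩ := transitive48 u bD hu vD_ok.2.1
  have hP : Cfsg.sqNorm (bP : GolayPt → ℤ) = 32 := pairVec_norm (by decide) (Or.inl rfl)
  have hDP : dotInt (bD : GolayPt → ℤ) bP = 24 := by decide +kernel
  have hgv : Cfsg.sqNorm ((g • v : leechLattice) : GolayPt → ℤ) = 32 := (norm_smul' g v).trans hv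
  have hd : dotInt (bD : GolayPt → ℤ) ((g • v : leechLattice) : GolayPt → ℤ) = 24 := by rw [← hg, dot_smul, huv]
  obtain ⟨h, h1, h2⟩ := decompositions bD (g • v) bP vD_ok.2.1
    ⟨hgv, (sub_norm_iff (u := (bD : GolayPt → ℤ)) vD_ok.2.1 hgv).mpr hd⟩
    ⟨hP, (sub_norm_iff (u := (bD : GolayPt → ℤ)) vD_ok.2.1 hP).mpr hDP⟩
  exact ⟨h * g, by rw [mul_smul, hg, h1], by rw [mul_smul, h2]⟩

theorem mclaughlin (u v : leechLattice) (hu : Cfsg.sqNorm (u : GolayPt → ℤ) = 48)
    (hv : Cfsg.sqNorm (v : GolayPt → ℤ) = 32) (huv : dotInt (u : GolayPt → ℤ) v = 24)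
    {S : Set leechLattice} (hS : ∀ x, x ∈ S ↔ Cfsg.sqNorm (x : GolayPt → ℤ) = 32 ∧
      dotInt (u : GolayPt → ℤ) x = 24 ∧ dotInt (v : GolayPt → ℤ) x = 16) :
    S.ncard = 275 ∧ ∀ x ∈ S, ∀ x' ∈ S, ∃ g : Co0, g • u = u ∧ g • v = v ∧ g • x = x' := by
  obtain ⟨g, hgu, hgv⟩ := to_DP u v hu hv huv
  set T : Set leechLattice := {x | Cfsg.sqNorm (x : GolayPt → ℤ) = 32 ∧
      ((dotInt (dec kD) x == 24 && dotInt (dec kP) x == 16) = true)} with hT
  have hST : ∀ x, x ∈ S ↔ g • x ∈ T := fun x => by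
    simp only [hS, hT, Set.mem_ofPred_eq, Bool.and_eq_true, beq_iff_eq, norm_smul', dec_kD, dec_kP]
    rw [show vD = ((g • u : leechLattice) : GolayPt → ℤ) by rw [hgu], ← hgv, dot_smul, dot_smul]
  have hcard : T.ncard = 275 := by
    rw [hT, census2P fun a => a.1 == 24 && a.2 == 16, count_DP]
  refine ⟨(transport g hST).trans hcard, fun x hx x' hx' => ?_⟩
  obtain ⟨k, hk, he⟩ := orbit_eq (fixed := [kD, kP])
    (by simp only [List.mem_cons, List.not_mem_nil, or_false]; rintro B (rfl | rfl); exacts [short_base.1, short_base.2.1])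
    short_base.2.2.2.1 treeP_ok T (minSet_finite.subset fun y hy => hy.1) hcard
    ⟨by decide +kernel, by decide +kernel⟩
    (fun k hk y hy => by
      simp only [hT, Set.mem_ofPred_eq, Bool.and_eq_true, beq_iff_eq, norm_smul', dec_kD, dec_kP] at hy ⊢
      rw [← dot_smul k bD y, ← dot_smul k bP y, hk kD (by simp) bD dec_kD.symm, hk kP (by simp) bP dec_kP.symm] at hy
      exact hy)
    ((hST x).mp hx) ((hST x').mp hx')
  refine ⟨g⁻¹ * k * g, ?_, ?_, by rw [mul_smul, mul_smul, he, inv_smul_smul]⟩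
  · rw [mul_smul, mul_smul, hgu, hk kD (by simp) bD dec_kD.symm, ← hgu, inv_smul_smul]
  · rw [mul_smul, mul_smul, hgv, hk kP (by simp) bP dec_kP.symm, ← hgv, inv_smul_smul]

theorem hs_iff {v w x : leechLattice} {g : Co0} (hgv : g • v = bD) (hgw : g • w = bQ - bD) :
    (Cfsg.sqNorm (x : GolayPt → ℤ) = 32 ∧ dotInt (v : GolayPt → ℤ) x = 24 ∧ dotInt (w : GolayPt → ℤ) x = -24) ↔
      (Cfsg.sqNorm ((g • x : leechLattice) : GolayPt → ℤ) = 32 ∧
        dotInt vD ((g • x : leechLattice) : GolayPt → ℤ) = 24 ∧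
        dotInt (bQ : GolayPt → ℤ) ((g • x : leechLattice) : GolayPt → ℤ) = 0) := by
  rw [norm_smul', ← dot_smul g v x, ← dot_smul g w x, hgv, hgw, AddSubgroup.coe_sub, dot_comm,
    dot_comm ((bQ : GolayPt → ℤ) - (bD : GolayPt → ℤ)), dot_sub_right, dot_comm _ (bQ : GolayPt → ℤ), dot_comm _ (bD : GolayPt → ℤ)]
  refine and_congr_right fun _ => ?_
  constructor <;> (rintro ⟨h1, h2⟩; refine ⟨h1, ?_⟩; have h3 : dotInt (bD : GolayPt → ℤ) _ = 24 := h1; omega)

theorem higman_sims (v w : leechLattice) (hv : Cfsg.sqNorm (v : GolayPt → ℤ) = 48)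
    (hw : Cfsg.sqNorm (w : GolayPt → ℤ) = 48) (hvw : dotInt (v : GolayPt → ℤ) w = -32) :
    {x : leechLattice | Cfsg.sqNorm (x : GolayPt → ℤ) = 32 ∧ dotInt (v : GolayPt → ℤ) x = 24 ∧
      dotInt (w : GolayPt → ℤ) x = -24}.ncard = 100 := by
  obtain ⟨y, hy, hvy, hwy⟩ := third_point v w hv hw hvw
  obtain ⟨g, hgv, hgw, -⟩ := to_triangle v w y hv hw hvw hy hvy hwy
  rw [← count_DQ, ← census2Q fun a => a.1 == 24 && a.2 == 0]
  refine transport g fun x => ?_
  simp only [Set.mem_ofPred_eq, Bool.and_eq_true, beq_iff_eq, dec_kD, dec_kQ]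
  exact hs_iff hgv hgw

theorem hs_point (v w x : leechLattice) (hv : Cfsg.sqNorm (v : GolayPt → ℤ) = 48)
    (hw : Cfsg.sqNorm (w : GolayPt → ℤ) = 48) (hvw : dotInt (v : GolayPt → ℤ) w = -32)
    (hx : Cfsg.sqNorm (x : GolayPt → ℤ) = 32) (hvx : dotInt (v : GolayPt → ℤ) x = 24)
    (hwx : dotInt (w : GolayPt → ℤ) x = -24) {S : Set leechLattice} (hS : ∀ y, y ∈ S ↔
      Cfsg.sqNorm (y : GolayPt → ℤ) = 32 ∧ dotInt (v : GolayPt → ℤ) y = 24 ∧ dotInt (w : GolayPt → ℤ) y = -24) :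
    {y | y ∈ S ∧ dotInt (x : GolayPt → ℤ) y = 8}.ncard = 22 ∧
    {y | y ∈ S ∧ y ≠ x ∧ dotInt (x : GolayPt → ℤ) y ≠ 8}.ncard = 77 ∧
    ∀ y ∈ S, ∀ y' ∈ S, y ≠ x → y' ≠ x →
      (dotInt (x : GolayPt → ℤ) y = 8 ↔ dotInt (x : GolayPt → ℤ) y' = 8) →
      ∃ g : Co0, g • v = v ∧ g • w = w ∧ g • x = x ∧ g • y = y' := by
  obtain ⟨g, hgv, hgw, hgx⟩ := to_triangle v w x hv hw hvw hx hvx hwx
  replace hgv : g • v = bD := hgv
  replace hgw : g • w = bQ - bD := hgw
  set A : Set leechLattice := {y | Cfsg.sqNorm (y : GolayPt → ℤ) = 32 ∧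
      ((dotInt (dec kD) y == 24 && dotInt (dec kQ) y == 0 && dotInt (dec kP) y == 8) = true)} with hA
  set B : Set leechLattice := {y | Cfsg.sqNorm (y : GolayPt → ℤ) = 32 ∧
      ((dotInt (dec kD) y == 24 && dotInt (dec kQ) y == 0 && dotInt (dec kP) y != 8 &&
        dotInt (dec kP) y != 32) = true)} with hB
  have hne : ∀ y, y ∈ S → (y ≠ x ↔ dotInt (x : GolayPt → ℤ) y ≠ 32) := fun y hy => by
    refine not_congr ⟨fun e => ?_, fun e => ?_⟩
    · rw [e, ← sqNorm_eq_dot, hx]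
    · have h : Cfsg.sqNorm ((x : GolayPt → ℤ) - (y : GolayPt → ℤ)) = 0 := by rw [sqNorm_sub, hx, ((hS y).mp hy).1, e]; norm_num
      refine Subtype.ext (funext fun i => ?_)
      have h' := (Finset.sum_eq_zero_iff_of_nonneg (fun i _ => sq_nonneg (((x : GolayPt → ℤ) - (y : GolayPt → ℤ)) i))).mp h i
        (Finset.mem_univ i)
      have h'' : ((x : GolayPt → ℤ) - (y : GolayPt → ℤ)) i = 0 := pow_eq_zero_iff (two_ne_zero) |>.mp h'
      simp only [Pi.sub_apply] at h''
      omega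
  have hSA : ∀ y, y ∈ {y | y ∈ S ∧ dotInt (x : GolayPt → ℤ) y = 8} ↔ g • y ∈ A := fun y => by
    simp only [hA, Set.mem_ofPred_eq, Bool.and_eq_true, beq_iff_eq, dec_kD, dec_kQ, dec_kP, hS,
      hs_iff hgv hgw, ← dot_smul g x y, hgx]
    tauto
  have hSB : ∀ y, y ∈ {y | y ∈ S ∧ y ≠ x ∧ dotInt (x : GolayPt → ℤ) y ≠ 8} ↔ g • y ∈ B := fun y => by
    have := hne y
    simp only [hS, hs_iff hgv hgw, ← dot_smul g x y, hgx] at this
    simp only [hB, Set.mem_ofPred_eq, Bool.and_eq_true, beq_iff_eq, bne_iff_ne, dec_kD, dec_kQ, dec_kP, hS,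
      hs_iff hgv hgw, ← dot_smul g x y, hgx]
    tauto
  have hcA : A.ncard = 22 := by
    rw [hA, census3 fun a => a.1 == 24 && a.2.1 == 0 && a.2.2 == 8, count_DQP22]
  have hcB : B.ncard = 77 := by
    rw [hB, census3 fun a => a.1 == 24 && a.2.1 == 0 && a.2.2 != 8 && a.2.2 != 32, count_DQP77]
  refine ⟨(transport g hSA).trans hcA, (transport g hSB).trans hcB, fun y hy y' hy' hyx hyx' hiff => ?_⟩
  have hfix : ∀ C ∈ [kD, kP, kQ], Short C := by
    simp only [List.mem_cons, List.not_mem_nil, or_false]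
    rintro C (rfl | rfl | rfl)
    exacts [short_base.1, short_base.2.1, short_base.2.2.1]
  have hkey : ∀ k, Fixes [kD, kP, kQ] k → k • bD = bD ∧ k • bP = bP ∧ k • bQ = bQ := fun k hk =>
    ⟨hk kD (by simp) bD dec_kD.symm, hk kP (by simp) bP dec_kP.symm, hk kQ (by simp) bQ dec_kQ.symm⟩
  have hdots : ∀ k, Fixes [kD, kP, kQ] k → ∀ z : leechLattice,
      dotInt (dec kD) ((k • z : leechLattice) : GolayPt → ℤ) = dotInt (dec kD) z ∧
      dotInt (dec kP) ((k • z : leechLattice) : GolayPt → ℤ) = dotInt (dec kP) z ∧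
      dotInt (dec kQ) ((k • z : leechLattice) : GolayPt → ℤ) = dotInt (dec kQ) z := by
    intro k hk z
    obtain ⟨h1, h2, h3⟩ := hkey k hk
    have e1 := dot_smul k bD z
    have e2 := dot_smul k bP z
    have e3 := dot_smul k bQ z
    rw [h1] at e1
    rw [h2] at e2
    rw [h3] at e3
    rw [dec_kD, dec_kP, dec_kQ]
    exact ⟨e1, e2, e3⟩
  have key : ∃ k, Fixes [kD, kP, kQ] k ∧ k • g • y = g • y' := by
    by_cases h8 : dotInt (x : GolayPt → ℤ) y = 8
    · exact orbit_eq hfix short_base.2.2.2.2.1 treeQ22_ok A (minSet_finite.subset fun z hz => hz.1) hcA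
        ⟨by decide +kernel, by decide +kernel⟩
        (fun k hk z hz => by
          obtain ⟨e1, e2, e3⟩ := hdots k hk z
          simp only [hA, Set.mem_ofPred_eq, norm_smul', e1, e2, e3] at hz ⊢
          exact hz)
        ((hSA y).mp ⟨hy, h8⟩) ((hSA y').mp ⟨hy', hiff.mp h8⟩)
    · exact orbit_eq hfix short_base.2.2.2.2.2 treeQ77_ok B (minSet_finite.subset fun z hz => hz.1) hcB
        ⟨by decide +kernel, by decide +kernel⟩
        (fun k hk z hz => by
          obtain ⟨e1, e2, e3⟩ := hdots k hk z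
          simp only [hB, Set.mem_ofPred_eq, norm_smul', e1, e2, e3] at hz ⊢
          exact hz)
        ((hSB y).mp ⟨hy, hyx, h8⟩) ((hSB y').mp ⟨hy', hyx', fun e => h8 (hiff.mpr e)⟩)
  obtain ⟨k, hk, he⟩ := key
  obtain ⟨h1, h2, h3⟩ := hkey k hk
  refine ⟨g⁻¹ * k * g, ?_, ?_, ?_, by rw [mul_smul, mul_smul, he, inv_smul_smul]⟩
  · rw [mul_smul, mul_smul, hgv, h1, ← hgv, inv_smul_smul]
  · rw [mul_smul, mul_smul, hgw, sub_eq_add_neg, smul_add', smul_neg', h3, h1, ← sub_eq_add_neg, ← hgw, inv_smul_smul]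
  · rw [mul_smul, mul_smul, hgx, h2, ← hgx, inv_smul_smul]

end Cfsg.Lib.Leech.Stab
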