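import Cfsg.Agent.Leech.Stab.Keys

/-!
# All vectors of least norm, as a list
-/

set_option autoImplicit false
set_option linter.style.haveILetI false

namespace Cfsg.Lib.Leech.Stab

open Cfsg Cfsg.Lib.Golay Finset

/-- The sign of a mask at a position. -/
def sgn (c i : ℕ) : ℤ := if c.testBit i then -1 else 1

/-- The odd vector of a code word and a position. -/
def oddVec (c p : ℕ) : GolayPt → ℤ := fun k => sgn c (pidx k) * if pidx k = p then -3 else 1

/-- The vector of an octad and a set of minus signs. -/
def twoSigned (o e : ℕ) : GolayPt → ℤ := fun k => if o.testBit (pidx k) then 2 * sgn e (pidx k) else 0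

/-- The vector with two coordinates four in absolute value. -/
def fourVec (i j : ℕ) (s t : ℤ) : GolayPt → ℤ :=
  fun k => if pidx k = i then s else if pidx k = j then t else 0

/-- The subsets of a list of positions with given parity, as masks. -/
def subs : List ℕ → Bool → List ℕ
  | [], b => if b then [] else [0]
  | i :: l, b => subs l b ++ (subs l (!b)).map (fun e => e ||| 2 ^ i)

/-- The positions of a mask. -/
def bitsOf (o : ℕ) : List ℕ := (List.range 24).filter fun i => o.testBit i

/-- All vectors of least norm. -/
def allVecs : List (GolayPt → ℤ) :=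
  (codeMasks.flatMap fun c => (List.range 24).map fun p => oddVec c p) ++
  (octMasks.flatMap fun o => (subs (bitsOf o) false).map fun e => twoSigned o e) ++
  ((List.range 24).flatMap fun j => (List.range j).flatMap fun i =>
    ([4, -4] : List ℤ).flatMap fun s => ([4, -4] : List ℤ).map fun t => fourVec i j s t)

theorem subs_bits : ∀ (l : List ℕ) (b : Bool), ∀ e ∈ subs l b, ∀ i, e.testBit i = true → i ∈ l
  | [], b => fun e he i hi => by
    cases b <;> simp [subs] at he
    subst he; simp at hi
  | x :: l, b => fun e he i hi => by
    simp only [subs, List.mem_append, List.mem_map] at he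
    rcases he with he | ⟨e', he', rfl⟩
    · exact List.mem_cons_of_mem _ (subs_bits l b e he i hi)
    · simp only [Nat.testBit_or, Bool.or_eq_true, Nat.testBit_two_pow, decide_eq_true_eq] at hi
      rcases hi with hi | rfl
      · exact List.mem_cons_of_mem _ (subs_bits l _ e' he' i hi)
      · exact List.mem_cons_self

theorem subs_complete : ∀ (l : List ℕ), l.Nodup → ∀ (q : ℕ → Bool) (b : Bool),
    (l.countP q % 2 = if b then 1 else 0) → ∃ e ∈ subs l b, ∀ i ∈ l, e.testBit i = q i
  | [], _, q, b, h => by
    cases b <;> simp at h
    exact ⟨0, by simp [subs], by simp⟩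
  | x :: l, hnd, q, b, h => by
    obtain ⟨hx, hnd'⟩ := List.nodup_cons.mp hnd
    rw [List.countP_cons] at h
    cases hq : q x
    · obtain ⟨e, he, hbit⟩ := subs_complete l hnd' q b (by simpa [hq] using h)
      refine ⟨e, by simp [subs, he], fun i hi => ?_⟩
      rcases List.mem_cons.mp hi with rfl | hi
      · rw [hq]
        exact Bool.eq_false_iff.mpr fun ht => hx (subs_bits l b e he i ht)
      · exact hbit i hi
    · obtain ⟨e, he, hbit⟩ := subs_complete l hnd' q (!b) (by
        simp only [hq, if_true] at h
        cases b <;> simp at h ⊢ <;> omega)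
      refine ⟨e ||| 2 ^ x, by simp only [subs, List.mem_append, List.mem_map]; exact Or.inr ⟨e, he, rfl⟩,
        fun i hi => ?_⟩
      rw [Nat.testBit_or, Nat.testBit_two_pow]
      rcases List.mem_cons.mp hi with rfl | hi
      · simp [hq]
      · rw [hbit i hi]
        have : x ≠ i := fun e => hx (e ▸ hi)
        simp [this]

theorem mem_bitsOf {o i : ℕ} : i ∈ bitsOf o ↔ i < 24 ∧ o.testBit i = true := by simp [bitsOf]

theorem bitsOf_nodup (o : ℕ) : (bitsOf o).Nodup := List.nodup_range.filter _

theorem sum_ite_filter (f : ℕ → ℤ) (q : ℕ → Bool) : ∀ l : List ℕ,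
    (l.map fun i => if q i then f i else 0).sum = ((l.filter q).map f).sum
  | [] => rfl
  | x :: l => by
    rw [List.map_cons, List.sum_cons, sum_ite_filter f q l, List.filter_cons]
    cases q x <;> simp

theorem flatMap_congr' {α β : Type*} : ∀ {l : List α} {f g : α → List β},
    (∀ x ∈ l, f x = g x) → l.flatMap f = l.flatMap g
  | [], _, _, _ => rfl
  | x :: l, f, g, h => by
    rw [List.flatMap_cons, List.flatMap_cons, h x List.mem_cons_self,
      flatMap_congr' fun y hy => h y (List.mem_cons_of_mem _ hy)]

theorem mem_allVecs {x : GolayPt → ℤ} (hx : x ∈ leechLattice) (hn : Cfsg.sqNorm x = 32) : x ∈ allVecs := by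
  simp only [allVecs, List.mem_append, List.mem_flatMap, List.mem_map]
  obtain ⟨c, z, hd | hd⟩ := mem_lattice_normal.mp hx
  · rcases min_even hd hn with ⟨-, i, j, hij, hi, hj, h0⟩ | ⟨hc, -, hval⟩
    · refine Or.inr ?_
      have key : ∀ a b : GolayPt, pidx a < pidx b → (x a = 4 ∨ x a = -4) → (x b = 4 ∨ x b = -4) →
          (∀ k, k ≠ a → k ≠ b → x k = 0) → ∃ J, J ∈ List.range 24 ∧ ∃ I, I ∈ List.range J ∧
            ∃ s, s ∈ ([4, -4] : List ℤ) ∧ ∃ t, t ∈ ([4, -4] : List ℤ) ∧ fourVec I J s t = x := by
        intro a b hab ha hb hz
        refine ⟨pidx b, List.mem_range.mpr (pidx_lt b), pidx a, List.mem_range.mpr hab, x a,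
          by rcases ha with e | e <;> simp [e], x b, by rcases hb with e | e <;> simp [e], funext fun k => ?_⟩
        simp only [fourVec]
        by_cases h1 : k = a
        · rw [h1, if_pos rfl]
        rw [if_neg fun e => h1 (pidx_injective e)]
        by_cases h2 : k = b
        · rw [h2, if_pos rfl]
        rw [if_neg fun e => h2 (pidx_injective e), hz k h1 h2]
      rcases lt_or_gt_of_ne (fun e => hij (pidx_injective e)) with h | h
      · exact key i j h hi hj h0
      · exact key j i h hj hi fun k h1 h2 => h0 k h2 h1
    · refine Or.inl (Or.inr ?_)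
      have hm := (mem_octads_iff c).mp hc
      have ho : Golay.mk c ∈ octMasks := by
        simp only [octMasks, List.mem_filter, beq_iff_eq]
        exact ⟨mem_codeMasks.mpr hm.1, by rw [pc_eq_card, pts_mk]; exact hm.2⟩
      let q : ℕ → Bool := fun i => decide (∃ p ∈ c, pidx p = i ∧ z p ≠ 0)
      have hpar : (bitsOf (Golay.mk c)).countP q % 2 = 0 := by
        have h1 : ∀ p, z p = if q (pidx p) && (Golay.mk c).testBit (pidx p) then -1 else 0 := fun p => by
          have e1 := hval p
          rw [hd.hx p] at e1
          by_cases hp : p ∈ c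
          · have hb : (Golay.mk c).testBit (pidx p) = true := (testBit_mk c p).mpr hp
            by_cases hz : z p = 0
            · have : q (pidx p) = false := decide_eq_false fun ⟨p', _, e, h'⟩ => h' (pidx_injective e ▸ hz)
              simp [this, hz]
            · have : q (pidx p) = true := decide_eq_true ⟨p, hp, rfl, hz⟩
              simp only [this, hb, Bool.and_self, if_true]
              simp only [indZ, hp, if_true, hz, if_false] at e1
              omega
          · have hb : (Golay.mk c).testBit (pidx p) = false := Bool.eq_false_iff.mpr fun h => hp ((testBit_mk c p).mp h)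
            simp only [hb, Bool.and_false, Bool.false_eq_true, if_false]
            simp only [indZ, hp, if_false] at e1
            omega
        have h2 := hd.hz
        rw [Finset.sum_congr rfl fun p _ => h1 p,
          sum_pts fun i => if q i && (Golay.mk c).testBit i then -1 else 0, sum_ite_filter (fun _ => -1)] at h2
        rw [List.countP_eq_length_filter, bitsOf, List.filter_filter]
        rw [List.map_const', List.sum_replicate] at h2
        simp only [nsmul_eq_mul, mul_neg, mul_one] at h2
        omega
      obtain ⟨e, he, hbit⟩ := subs_complete _ (bitsOf_nodup (Golay.mk c)) q false (by simpa using hpar)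
      refine ⟨Golay.mk c, ho, e, he, funext fun p => ?_⟩
      rw [hval p]
      simp only [twoSigned, sgn]
      by_cases hp : p ∈ c
      · have hb : (Golay.mk c).testBit (pidx p) = true := (testBit_mk c p).mpr hp
        rw [if_pos hb, if_pos hp, hbit _ (mem_bitsOf.mpr ⟨pidx_lt p, hb⟩)]
        by_cases hz : z p = 0
        · have : q (pidx p) = false := decide_eq_false fun ⟨p', _, e, h'⟩ => h' (pidx_injective e ▸ hz)
          simp [this, hz]
        · have : q (pidx p) = true := decide_eq_true ⟨p, hp, rfl, hz⟩
          simp [this, hz]
      · rw [if_neg fun h => hp ((testBit_mk c p).mp h), if_neg hp]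
  · refine Or.inl (Or.inl ?_)
    set y := flipOn c x with hy
    have hny : ∑ i, y i ^ 2 = 32 := by
      have := sqNorm_flipOn c x; rw [hn] at this; exact this
    have hmod : ∀ i, y i % 4 = 1 := fun i => by
      simp only [hy, flipOn, hd.hx i, indZ]; split <;> omega
    have hge : ∀ i, 0 ≤ y i ^ 2 - 1 := fun i => by
      have h0 : y i ≠ 0 := fun e => by have := hmod i; omega
      nlinarith [Int.one_le_abs h0, sq_abs (y i)]
    have h8 : ∑ i, (y i ^ 2 - 1) = 8 := by
      rw [Finset.sum_sub_distrib, hny]; simp [Fintype.card_option, ZMod.card]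
    have hcase : ∀ i, y i = 1 ∨ y i = -3 := fun i => by
      have h1 := Finset.single_le_sum (f := fun i => y i ^ 2 - 1) (fun i _ => hge i) (Finset.mem_univ i)
      have : -3 ≤ y i ∧ y i ≤ 3 := by constructor <;> nlinarith
      have := hmod i
      omega
    have hcnt : (univ.filter fun i => y i = -3).card = 1 := by
      have e : ∀ i, y i ^ 2 - 1 = 8 * if y i = -3 then 1 else 0 := fun i => by
        rcases hcase i with h | h <;> simp [h]
      simp only [e, ← Finset.mul_sum, Finset.sum_boole] at h8
      omega
    obtain ⟨p, hp⟩ := Finset.card_eq_one.mp hcnt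
    refine ⟨Golay.mk c, mem_codeMasks.mpr ((mem_supports_iff c).mp hd.hc), pidx p,
      List.mem_range.mpr (pidx_lt p), funext fun k => ?_⟩
    have hk : y k = if pidx k = pidx p then -3 else 1 := by
      have h1 : y k = -3 ↔ k = p := by simpa using Finset.ext_iff.mp hp k
      by_cases h : k = p
      · rw [if_pos (by rw [h]), h1.mpr h]
      · rw [if_neg fun e => h (pidx_injective e)]
        exact (hcase k).resolve_right fun e => h (h1.mp e)
    simp only [oddVec, sgn, testBit_mk]
    rw [← hk, hy]
    simp only [flipOn]
    by_cases hkc : k ∈ c <;> simp [hkc]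

theorem length_subs : ∀ (i : ℕ) (l : List ℕ) (b : Bool), (subs (i :: l) b).length = 2 ^ l.length
  | i, [], b => by cases b <;> rfl
  | i, j :: l, b => by
    rw [subs, List.length_append, List.length_map, length_subs j l, length_subs j l, List.length_cons]
    omega

theorem octad_bits : (octMasks.all fun o => (bitsOf o).length == 8) = true := by decide +kernel

theorem word_counts : codeMasks.length = 4096 ∧ octMasks.length = 759 := by decide +kernel

theorem length_allVecs : allVecs.length = 196560 := by
  have ho : ∀ o ∈ octMasks, (subs (bitsOf o) false).length = 128 := fun o ho => by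
    have h : (bitsOf o).length = 8 := by simpa using List.all_eq_true.mp octad_bits o ho
    match hb : bitsOf o with
    | [] => simp [hb] at h
    | i :: l =>
      rw [length_subs]
      have : l.length = 7 := by simpa [hb] using h
      rw [this]
      norm_num
  simp only [allVecs, List.length_append, List.length_flatMap, List.length_map, List.length_range]
  rw [List.map_congr_left (l := octMasks) (g := fun _ => 128) ho]
  simp only [List.map_const', List.sum_replicate, word_counts.1, word_counts.2, smul_eq_mul]
  decide +kernel

/-- The vectors of least norm. -/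
def minSet : Set (GolayPt → ℤ) := {x | x ∈ leechLattice ∧ Cfsg.sqNorm x = 32}

theorem allVecs_facts : allVecs.Nodup ∧ ∀ x, x ∈ allVecs ↔ x ∈ minSet := by
  classical
  have hlen : allVecs.length = 196560 := length_allVecs
  have hsub : minSet ⊆ ↑allVecs.toFinset := fun x hx => List.mem_toFinset.mpr (mem_allVecs hx.1 hx.2)
  have heq : minSet = ↑allVecs.toFinset := Set.eq_of_subset_of_ncard_le hsub (by
    rw [Set.ncard_coe_finset, show minSet.ncard = 196560 from ncard_32]
    exact (List.toFinset_card_le _).trans hlen.le) (Finset.finite_toSet _)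
  refine ⟨?_, fun x => by rw [heq, Finset.mem_coe, List.mem_toFinset]⟩
  have hc : allVecs.toFinset.card = allVecs.length := by
    rw [hlen, ← Set.ncard_coe_finset, ← heq]
    exact ncard_32
  rw [← List.dedup_eq_self]
  exact (List.dedup_sublist _).eq_of_length (by rw [← List.card_toFinset]; exact hc)

end Cfsg.Lib.Leech.Stab
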