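import Cfsg.Agent.Leech.Stab.Data

/-!
# Elements fixing a vector of norm 48 and a short vector
-/

set_option autoImplicit false

namespace Cfsg.Lib.Leech.Stab

/-- Generators for the stabiliser of the two base vectors. -/
def gensHS : List (List Atom) := [
  [.perm (13828273774278780918146435517346072814071205148212889811681826837275084531895864673653821981074979265059644112896, 13828264600284353269574805129164874660059547855855648325077388371017393691896286392318576899052986402627940253696)],
  [.perm (13828393035786885894290392431104223091502498473434433473826236003772860563912728859013021922482506455471016902656, 13828383860952521928118036812133339679317047193022619069896467746456029457229059199436302488060061450015168659456)],
  [.flip 12641313, .perm (10822084224361514120165311848755799425374046622107558945312662438067627378808939561997384011421788664262539477011, 8417259185551263177412767755193055054062130496844399516049576326856658833344294802272183860471733302624506609686), .xi, .flip 6827971, .perm (9619786378907334003829212895133418168258462557470596368159673815849615882504363170734604145167058431664953360386, 12024593068048788661315605654426646062227809635945949426127022455008109238037626195669993090901226456553288761361), .xi, .flip 11119404, .perm (12625801620970004634572105105622224247896305726454645224638995551877335195698260086660880522991187998080148111366, 2405026869908106088128755961327277922767828551377065930590735354613594894533122018586294021299259504641751121941)]]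

end Cfsg.Lib.Leech.Stab
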