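import Cfsg.Agent.Leech.Transitive
import Cfsg.Agent.Leech.Counts

/-!
# Packed coordinate vectors
-/

set_option autoImplicit false
set_option linter.style.haveILetI false

namespace Cfsg.Lib.Leech.Stab

open Cfsg Cfsg.Lib.Golay Finset

/-- Five bits per coordinate, with offset sixteen. -/
def cv (K i : ℕ) : ℕ := (K >>> (5 * i)) % 32

/-- The coordinate at a position. -/
def co (K i : ℕ) : ℤ := (cv K i : ℤ) - 16

/-- The vector of a key. -/
def dec (K : ℕ) : GolayPt → ℤ := fun p => co K (pidx p)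

/-- Pack the first positions. -/
def packK (f : ℕ → ℕ) : ℕ → ℕ
  | 0 => 0
  | n + 1 => packK f n + (f n <<< (5 * n))

theorem packK_lt (f : ℕ → ℕ) : ∀ n, (∀ i < n, f i < 32) → packK f n < 2 ^ (5 * n)
  | 0, _ => by simp [packK]
  | n + 1, h => by
    have h1 := packK_lt f n fun i hi => h i (by omega)
    have h2 := h n (by omega)
    rw [packK, Nat.shiftLeft_eq, show 5 * (n + 1) = 5 * n + 5 by ring, pow_add]
    nlinarith

theorem cv_packK (f : ℕ → ℕ) : ∀ n, (∀ i < n, f i < 32) → ∀ i < n, cv (packK f n) i = f i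
  | 0, _ => fun i hi => absurd hi (by omega)
  | n + 1, h => fun i hi => by
    have h1 := packK_lt f n fun j hj => h j (by omega)
    have hn := h n (by omega)
    simp only [cv, packK, Nat.shiftLeft_eq, Nat.shiftRight_eq_div_pow]
    rcases Nat.lt_succ_iff_lt_or_eq.mp hi with hlt | rfl
    · have ih := cv_packK f n (fun j hj => h j (by omega)) i hlt
      simp only [cv, Nat.shiftRight_eq_div_pow] at ih
      obtain ⟨k, hk⟩ : ∃ k, n = i + 1 + k := ⟨n - i - 1, by omega⟩
      have e : f n * 2 ^ (5 * n) = 2 ^ (5 * i) * (32 * (f n * 2 ^ (5 * k))) := by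
        rw [hk, show 5 * (i + 1 + k) = 5 * i + (5 + 5 * k) by ring, pow_add, pow_add]; ring
      rw [e, Nat.add_mul_div_left _ _ (by positivity), Nat.add_mul_mod_self_left, ih]
    · rw [Nat.add_mul_div_right _ _ (by positivity), Nat.div_eq_of_lt h1, Nat.zero_add,
        Nat.mod_eq_of_lt hn]

theorem key_ext {K K' : ℕ} (h : K < 2 ^ 120) (h' : K' < 2 ^ 120) (he : dec K = dec K') : K = K' := by
  apply Nat.eq_of_testBit_eq
  intro j
  by_cases hj : j < 120
  · have h1 := congrFun he (ptAt (j / 5))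
    simp only [dec, show pidx (ptAt (j / 5)) = j / 5 from pidx_ptAt ⟨j / 5, by omega⟩, co] at h1
    have h2 : cv K (j / 5) = cv K' (j / 5) := by omega
    have h3 := congrArg (fun v => Nat.testBit v (j % 5)) h2
    have h5 : j % 5 < 5 := Nat.mod_lt _ (by norm_num)
    simp only [cv, show (32 : ℕ) = 2 ^ 5 from rfl, Nat.testBit_mod_two_pow, Nat.testBit_shiftRight, h5,
      decide_true, Bool.true_and] at h3
    rwa [Nat.div_add_mod j 5] at h3
  · have hp : 2 ^ 120 ≤ 2 ^ j := Nat.pow_le_pow_right (by norm_num) (by omega)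
    rw [Nat.testBit_lt_two_pow (lt_of_lt_of_le h hp), Nat.testBit_lt_two_pow (lt_of_lt_of_le h' hp)]

theorem sum_pts (f : ℕ → ℤ) : ∑ p : GolayPt, f (pidx p) = ((List.range 24).map f).sum := by
  have h1 : ∑ p : GolayPt, f (pidx p) = ∑ i : Fin 24, f i := by
    rw [← Equiv.sum_comp ptEquiv fun i => f (i : ℕ)]
    rfl
  rw [h1, Fin.sum_univ_eq_sum_range (fun i => f i) 24]
  rfl

/-- The inner product with a packed vector. -/
def dotK (K L : ℕ) : ℤ := ((List.range 24).map fun i => co K i * co L i).sum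

theorem dotK_eq (K L : ℕ) : dotK K L = dotInt (dec K) (dec L) := (sum_pts fun i => co K i * co L i).symm

end Cfsg.Lib.Leech.Stab
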