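import Cfsg.Agent.Leech.Stab.Keys

/-!
# Certified orbits of stabilizers in the automorphism group of the lattice
-/

set_option autoImplicit false
set_option linter.style.haveILetI false

namespace Cfsg.Lib.Leech.Stab

open Cfsg Cfsg.Lib.Golay Finset

/-- The atoms: a permutation of the code, a change of signs on a word, and the extra automorphism. -/
inductive Atom
  | perm (g : PermCert.PP)
  | flip (m : ℕ)
  | xi

/-- Validity. -/
def Atom.ok : Atom → Bool
  | .perm g => preserves g
  | .flip m => inCode m
  | .xi => true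

/-- Tetrad numbers by position. -/
def tetN : List ℕ := [0, 0, 0, 0, 1, 5, 4, 1, 2, 4, 1, 4, 1, 3, 5, 2, 2, 5, 3, 2, 3, 3, 4, 5]

/-- Positions of the tetrads. -/
def tetMem : List (List ℕ) :=
  [[0, 1, 2, 3], [4, 7, 10, 12], [8, 15, 16, 19], [13, 18, 20, 21], [6, 9, 11, 22], [5, 14, 17, 23]]

/-- The action on keys. -/
def Atom.act : Atom → ℕ → ℕ
  | .perm g, K => packK (fun i => cv K (PermCert.ap g.2 i)) 24
  | .flip m, K => packK (fun i => if m.testBit i then 32 - cv K i else cv K i) 24
  | .xi, K => packK (fun i =>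
      let k := tetN.getD i 0
      let h := ((tetMem.getD k []).map (cv K)).sum / 2
      if k = 0 then h - cv K i else cv K i + 32 - h) 24

/-- The action of a word, rightmost first. -/
def evalW (w : List Atom) (K : ℕ) : ℕ := w.foldr (fun a L => a.act L) K

/-- Keys that behave like coordinates of short lattice vectors. -/
def Short (K : ℕ) : Prop := dec K ∈ leechLattice ∧ Cfsg.sqNorm (dec K) ≤ 64

theorem Short.bound {K : ℕ} (h : Short K) (p : GolayPt) : 8 ≤ cv K (pidx p) ∧ cv K (pidx p) ≤ 24 := by
  have := abs_le_eight h.2 p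
  simp only [dec, co] at this
  omega

theorem Short.bound' {K : ℕ} (h : Short K) {i : ℕ} (hi : i < 24) : 8 ≤ cv K i ∧ cv K i ≤ 24 := by
  have := h.bound (ptAt i)
  rwa [show pidx (ptAt i) = i from pidx_ptAt ⟨i, hi⟩] at this

theorem tet_facts : ∀ i : Fin 24, (tet (ptAt i) : ℕ) = tetN.getD i 0 := by decide +kernel

theorem tetMem_facts : ∀ k : Fin 6, (tetMem.getD k []).Nodup ∧
    univ.filter (fun p => tet p = k) = ((tetMem.getD k []).map ptAt).toFinset ∧
    (∀ i ∈ tetMem.getD k [], i < 24) ∧ (tetMem.getD k []).length = 4 ∧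
    ((tetMem.getD k []).map ptAt).Nodup := by decide +kernel

theorem tsum'_dec (K : ℕ) (k : Fin 6) :
    tsum' (dec K) k = (((tetMem.getD k []).map (cv K)).sum : ℤ) - 64 := by
  obtain ⟨-, hf, hlt, hlen, hnd'⟩ := tetMem_facts k
  rw [tsum', hf, List.sum_toFinset _ hnd', List.map_map]
  have : ∀ l : List ℕ, (∀ i ∈ l, i < 24) →
      (l.map (dec K ∘ ptAt)).sum = ((l.map (cv K)).sum : ℤ) - 16 * l.length := by
    intro l
    induction l with
    | nil => simp
    | cons i l ih =>
      intro h
      simp only [List.map_cons, List.sum_cons, List.length_cons, Function.comp_apply, dec,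
        show pidx (ptAt i) = i from pidx_ptAt ⟨i, h i List.mem_cons_self⟩, co]
      have e := ih fun j hj => h j (List.mem_cons_of_mem _ hj)
      simp only [Function.comp_def] at e ⊢
      rw [e]
      push_cast
      ring
  rw [this _ hlt, hlen]
  norm_num

/-- A word as an automorphism. -/
noncomputable def atomHom : Atom → Co0
  | .perm g => if h : preserves g = true then mono (toP_mem_M24 h) empty_mem_code else 1
  | .flip m => if h : inCode m = true then
      mono (one_mem M24) (c := pts m) ((mem_supports_iff _).mpr (by rwa [mk_pts (lt_of_inCode h)])) else 1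
  | .xi => extra

theorem act_spec {a : Atom} (ha : a.ok = true) {K : ℕ} (hK : Short K) :
    ∃ h : Short (a.act K), (atomHom a • (⟨dec K, hK.1⟩ : leechLattice)) = ⟨dec (a.act K), h.1⟩ := by
  suffices e : ((atomHom a • (⟨dec K, hK.1⟩ : leechLattice) : leechLattice) : GolayPt → ℤ) = dec (a.act K) by
    have hn := (atomHom a).2.2 ⟨dec K, hK.1⟩
    have hs : Short (a.act K) := ⟨e ▸ (atomHom a • (⟨dec K, hK.1⟩ : leechLattice)).2,
      e ▸ hn.le.trans hK.2⟩
    exact ⟨hs, Subtype.ext e⟩
  cases a with
  | perm g =>
    have hv : PermCert.valid 24 g = true := by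
      simp only [Atom.ok, preserves, Bool.and_eq_true] at ha; exact ha.1
    simp only [atomHom, dif_pos (show preserves g = true from ha)]
    rw [mono_apply]
    funext p
    have hb : ∀ i < 24, cv K (PermCert.ap g.2 i) < 32 := fun i _ => Nat.mod_lt _ (by norm_num)
    simp only [dec, co, Atom.act, cv_packK _ 24 hb _ (pidx_lt p), signedPerm, notMem_empty, if_false]
    have : pidx ((toP g).symm p) = PermCert.ap g.2 (pidx p) := by
      obtain ⟨q, rfl⟩ : ∃ q, toP g q = p := ⟨(toP g).symm p, Equiv.apply_symm_apply _ _⟩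
      rw [Equiv.symm_apply_apply, pidx_toP hv]
      have := List.all_eq_true.mp hv (pidx q) (List.mem_range.mpr (pidx_lt q))
      simp only [Bool.and_eq_true, beq_iff_eq, decide_eq_true_eq] at this
      exact this.2.symm
    rw [this]
  | flip m =>
    simp only [atomHom, dif_pos (show inCode m = true from ha)]
    rw [mono_apply]
    funext p
    have hb : ∀ i < 24, (if m.testBit i then 32 - cv K i else cv K i) < 32 := fun i hi => by
      have := hK.bound' hi; split <;> omega
    simp only [dec, co, Atom.act, cv_packK _ 24 hb _ (pidx_lt p), signedPerm, mem_pts, Equiv.Perm.one_symm,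
      Equiv.Perm.coe_one, id_eq]
    have := hK.bound p
    split <;> omega
  | xi =>
    rw [show atomHom Atom.xi = extra from rfl, extra_apply]
    have hval : ∀ i < 24, (((if tetN.getD i 0 = 0 then ((tetMem.getD (tetN.getD i 0) []).map (cv K)).sum / 2 - cv K i
        else cv K i + 32 - ((tetMem.getD (tetN.getD i 0) []).map (cv K)).sum / 2 : ℕ) : ℤ) - 16 = xi (dec K) (ptAt i)) ∧
        (if tetN.getD i 0 = 0 then ((tetMem.getD (tetN.getD i 0) []).map (cv K)).sum / 2 - cv K i
        else cv K i + 32 - ((tetMem.getD (tetN.getD i 0) []).map (cv K)).sum / 2) < 32 := by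
      intro i hi
      have hx := abs_le_eight (x := xi (dec K)) (by rw [sqNorm_xi (evenSums_of_mem hK.1)]; exact hK.2) (ptAt i)
      have hev := evenSums_of_mem hK.1 (tet (ptAt i))
      have hb := hK.bound' hi
      have hp : pidx (ptAt i) = i := pidx_ptAt ⟨i, hi⟩
      simp only [xi, tsum'_dec, sgT] at hx hev ⊢
      rw [tet_facts ⟨i, hi⟩] at hx hev ⊢
      simp only [dec, co, hp] at hx ⊢
      have h0 : tet (ptAt i) = 0 ↔ tetN.getD i 0 = 0 := by
        rw [← tet_facts ⟨i, hi⟩]; exact ⟨fun e => by simp [e], fun e => Fin.ext e⟩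
      by_cases h : tetN.getD i 0 = 0
      · simp only [if_pos (h0.mpr h), if_pos h] at hx ⊢
        constructor <;> omega
      · simp only [if_neg (fun e => h (h0.mp e)), if_neg h] at hx ⊢
        constructor <;> omega
    funext p
    simp only [dec, co, Atom.act]
    rw [cv_packK _ 24 (fun i hi => (hval i hi).2) _ (pidx_lt p), (hval _ (pidx_lt p)).1]
    congr 1
    exact (ptEquiv.symm_apply_apply p).symm

theorem evalW_spec {w : List Atom} (hw : w.all (·.ok) = true) {K : ℕ} (hK : Short K) :
    ∃ h : Short (evalW w K), (w.map atomHom).prod • (⟨dec K, hK.1⟩ : leechLattice) = ⟨dec (evalW w K), h.1⟩ := by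
  induction w with
  | nil => exact ⟨hK, one_smul _ _⟩
  | cons a w ih =>
    simp only [List.all_cons, Bool.and_eq_true] at hw
    obtain ⟨h1, e1⟩ := ih hw.2
    obtain ⟨h2, e2⟩ := act_spec hw.1 h1
    exact ⟨h2, by rw [List.map_cons, List.prod_cons, mul_smul, e1, e2]; rfl⟩

/-- A certificate node: key, parent, generator number, depth. -/
inductive NT
  | leaf
  | node (l : NT) (key par gen rank : ℕ) (r : NT)

/-- In-order list. -/
def NT.toList : NT → List (ℕ × ℕ × ℕ × ℕ)
  | .leaf => []
  | .node l k p g d r => l.toList ++ (k, p, g, d) :: r.toList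

/-- Look up the depth of a key. -/
def NT.look : NT → ℕ → Option ℕ
  | .leaf, _ => none
  | .node l k _ _ d r, x => bif Nat.blt x k then l.look x else bif Nat.blt k x then r.look x else some d

theorem NT.look_mem : ∀ (t : NT) (x d : ℕ), t.look x = some d → ∃ p g, (x, p, g, d) ∈ t.toList
  | .leaf, x, d, h => by simp [NT.look] at h
  | .node l k p g d' r, x, d, h => by
    simp only [NT.look] at h
    cases h1 : Nat.blt x k
    · cases h2 : Nat.blt k x
      · simp only [h1, h2, cond_false, Option.some.injEq] at h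
        have e : x = k := le_antisymm
          (le_of_not_gt fun hh => by rw [Nat.blt, Bool.eq_false_iff, ne_eq, Nat.ble_eq] at h2; omega)
          (le_of_not_gt fun hh => by rw [Nat.blt, Bool.eq_false_iff, ne_eq, Nat.ble_eq] at h1; omega)
        subst e; subst h
        exact ⟨p, g, by simp [NT.toList]⟩
      · simp only [h1, h2, cond_false, cond_true] at h
        obtain ⟨p', g', hm⟩ := NT.look_mem r x d h
        exact ⟨p', g', by simp [NT.toList, hm]⟩
    · simp only [h1, cond_true] at h
      obtain ⟨p', g', hm⟩ := NT.look_mem l x d h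
      exact ⟨p', g', by simp [NT.toList, hm]⟩

/-- Strictly increasing list. -/
def incr : List ℕ → Bool
  | [] => true
  | [_] => true
  | a :: b :: l => Nat.blt a b && incr (b :: l)

theorem incr_sound : ∀ l : List ℕ, incr l = true → l.Pairwise (· < ·)
  | [], _ => List.Pairwise.nil
  | [a], _ => List.pairwise_singleton _ a
  | a :: b :: l, h => by
    simp only [incr, Bool.and_eq_true, Nat.blt, Nat.ble_eq] at h
    have ih := incr_sound (b :: l) h.2
    refine List.Pairwise.cons (fun x hx => ?_) ih
    rcases List.mem_cons.mp hx with rfl | hx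
    · omega
    · have := (List.pairwise_cons.mp ih).1 x hx; omega

/-- The check of an orbit certificate. -/
def nodeOK (gens : List (List Atom)) (root : ℕ) (t : NT) (e : ℕ × ℕ × ℕ × ℕ) : Bool :=
  decide (e.1 < 1329227995784915872903807060280344576) &&
    bif e.2.2.2 == 0 then e.1 == root
    else match t.look e.2.1 with
      | some d => Nat.blt d e.2.2.2 && Nat.blt e.2.2.1 gens.length && evalW (gens.getD e.2.2.1 []) e.2.1 == e.1
      | none => false

/-- The whole check. -/
def orbitOK (fixed : List ℕ) (gens : List (List Atom)) (root n : ℕ) (t : NT) : Bool :=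
  gens.all (fun w => w.all (·.ok) && fixed.all fun B => evalW w B == B) &&
    t.toList.all (nodeOK gens root t) && incr (t.toList.map (·.1)) && t.toList.length == n

/-- The vectors of a certificate. -/
def NT.vecs (t : NT) : List (GolayPt → ℤ) := t.toList.map fun e => dec e.1

/-- Reachability from the root inside the stabilizer. -/
def FixRel (fixed : List ℕ) (x y : GolayPt → ℤ) : Prop :=
  ∃ g : Co0, (∀ B ∈ fixed, ∀ v : leechLattice, (v : GolayPt → ℤ) = dec B → g • v = v) ∧
    ∀ v : leechLattice, (v : GolayPt → ℤ) = x → ((g • v : leechLattice) : GolayPt → ℤ) = y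

theorem FixRel.symm {fixed : List ℕ} {x y : GolayPt → ℤ} (hx : x ∈ leechLattice) (h : FixRel fixed x y) :
    FixRel fixed y x := by
  obtain ⟨g, hg, he⟩ := h
  refine ⟨g⁻¹, fun B hB v hv => inv_smul_eq_iff.mpr (hg B hB v hv).symm, fun v hv => ?_⟩
  have : v = g • ⟨x, hx⟩ := Subtype.ext (hv.trans (he ⟨x, hx⟩ rfl).symm)
  rw [this, inv_smul_smul]

theorem FixRel.trans {fixed : List ℕ} {x y w : GolayPt → ℤ} (h : FixRel fixed x y) (h' : FixRel fixed y w) :
    FixRel fixed x w := by
  obtain ⟨g, hg, he⟩ := h
  obtain ⟨k, hk, hf⟩ := h'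
  exact ⟨k * g, fun B hB v hv => by rw [mul_smul, hg B hB v hv, hk B hB v hv],
    fun v hv => by rw [mul_smul]; exact hf _ (he v hv)⟩

theorem orbit_sound {fixed : List ℕ} {gens : List (List Atom)} {root n : ℕ} {t : NT}
    (hfix : ∀ B ∈ fixed, Short B) (hroot : Short root) (h : orbitOK fixed gens root n t = true) :
    t.vecs.Nodup ∧ t.vecs.length = n ∧ (∀ x ∈ t.vecs, FixRel fixed (dec root) x) ∧
      ∀ x ∈ t.vecs, x ∈ leechLattice := by
  simp only [orbitOK, Bool.and_eq_true, List.all_eq_true, beq_iff_eq] at h
  obtain ⟨⟨⟨hgens, hnodes⟩, hincr⟩, hlen⟩ := h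
  have hreach : ∀ (d : ℕ) (e : ℕ × ℕ × ℕ × ℕ), e ∈ t.toList → e.2.2.2 = d →
      Short e.1 ∧ FixRel fixed (dec root) (dec e.1) := by
    intro d
    induction d using Nat.strong_induction_on with
    | _ d ih =>
      intro e he hd
      have hn := hnodes e he
      simp only [nodeOK, Bool.and_eq_true] at hn
      obtain ⟨-, hn⟩ := hn
      cases h0 : (e.2.2.2 == 0)
      · simp only [h0, cond_false] at hn
        cases hl : t.look e.2.1 with
        | none => simp [hl] at hn
        | some d' =>
          simp only [hl, Bool.and_eq_true, beq_iff_eq] at hn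
          obtain ⟨⟨hlt, hg⟩, hev⟩ := hn
          simp only [Nat.blt, Nat.ble_eq] at hlt hg
          obtain ⟨p, g, hm⟩ := t.look_mem _ _ hl
          obtain ⟨hs, hr⟩ := ih d' (by omega) _ hm rfl
          have hgl : e.2.2.1 < gens.length := by omega
          rw [List.getD_eq_getElem _ _ hgl] at hev
          obtain ⟨hok', hfx⟩ := hgens _ (List.getElem_mem hgl)
          have hok := List.all_eq_true.mpr hok'
          obtain ⟨hs', hact⟩ := evalW_spec hok hs
          rw [hev] at hs'
          refine ⟨hs', hr.trans ⟨(gens[e.2.2.1].map atomHom).prod, fun B hB v hv => ?_, fun v hv => ?_⟩⟩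
          · obtain ⟨hsB, hactB⟩ := evalW_spec hok (hfix B hB)
            have hBB : evalW gens[e.2.2.1] B = B := hfx B hB
            rw [show v = ⟨dec B, (hfix B hB).1⟩ from Subtype.ext hv, hactB]
            exact Subtype.ext (congrArg dec hBB)
          · rw [show v = ⟨dec e.2.1, hs.1⟩ from Subtype.ext hv, hact]
            exact congrArg dec hev
      · simp only [h0, cond_true, beq_iff_eq] at hn
        rw [hn]
        exact ⟨hroot, 1, fun B hB v _ => one_smul _ v, fun v hv => by rw [one_smul, hv]⟩
  refine ⟨?_, by simp [NT.vecs, hlen], fun x hx => ?_, fun x hx => ?_⟩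
  · have hp := incr_sound _ hincr
    rw [List.pairwise_map] at hp
    unfold NT.vecs
    rw [List.Nodup, List.pairwise_map]
    refine hp.imp_of_mem fun {a b} ha hb hab heq => ?_
    have b1 := hnodes a ha
    have b2 := hnodes b hb
    simp only [nodeOK, Bool.and_eq_true, decide_eq_true_eq] at b1 b2
    have := key_ext (K := a.1) (K' := b.1) (by norm_num; exact b1.1) (by norm_num; exact b2.1) heq
    omega
  all_goals obtain ⟨e, he, rfl⟩ := List.mem_map.mp hx
  · exact (hreach _ e he rfl).2
  · exact (hreach _ e he rfl).1.1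

end Cfsg.Lib.Leech.Stab
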