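import Cfsg.Agent.Leech.SixShell
import Cfsg.Agent.Leech.Stab.DataHS352
import Cfsg.Agent.Leech.Stab.DataHS1100
import Cfsg.Agent.Leech.Stab.DataHS4125
import Cfsg.Agent.Leech.Stab.DataHS5600

/-!
# The orbits of the stabiliser of a vector of norm 48 and a least vector at product -16
-/

set_option autoImplicit false
set_option linter.style.haveILetI false

namespace Cfsg.Lib.Leech.Stab

open Cfsg Cfsg.Lib.Golay Finset MulAction

theorem count_HS :
    countTri (fun t => dD t == -16 && dQ t == 8) = 352 ∧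
    countTri (fun t => dD t == -16 && dQ t == -16) = 1100 ∧
    countTri (fun t => dD t == -16 && dQ t == 0) = 4125 ∧
    countTri (fun t => dD t == -16 && dQ t == -8) = 5600 := by
  refine ⟨?_, ?_, ?_, ?_⟩ <;> decide +kernel

/-- A class of least vectors at product -16 with the first base vector. -/
def clsHS (c : ℤ) : Set leechLattice :=
  {y | Cfsg.sqNorm (y : GolayPt → ℤ) = 32 ∧ dotInt vD (y : GolayPt → ℤ) = -16 ∧ dotInt (bQ : GolayPt → ℤ) y = c}

theorem clsHS_card (c : ℤ) : (clsHS c).ncard = countTri (fun t => dD t == -16 && dQ t == c) := by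
  rw [← census2Q fun a => a.1 == -16 && a.2 == c]
  congr 1
  ext y
  simp [clsHS, dec_kD, dec_kQ]

theorem clsHS_inv {c : ℤ} {k : Co0} (h1 : k • bD = bD) (h2 : k • bQ = bQ) {y : leechLattice} (hy : y ∈ clsHS c) :
    k • y ∈ clsHS c := by
  have e1 := dot_smul k bD y
  have e2 := dot_smul k bQ y
  rw [h1] at e1
  rw [h2] at e2
  change dotInt vD _ = dotInt vD _ at e1
  obtain ⟨a, b, d⟩ := hy
  exact ⟨(norm_smul' k y).trans a, e1.trans b, e2.trans d⟩

theorem stab_orbit {u x : leechLattice} {g : Co0} (hgu : g • u = bD) (hgx : g • x = -bQ)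
    {c : ℤ} {root n : ℕ} {t : NT} (hroot : Short root) (ok : orbitOK [kD, kQ] gensHS root n t = true)
    (hcard : (clsHS c).ncard = n) (hr : ⟨dec root, hroot.1⟩ ∈ clsHS c) :
    (orbit ↥(stabilizer Co0 u ⊓ stabilizer Co0 x) (g⁻¹ • (⟨dec root, hroot.1⟩ : leechLattice))).ncard = n ∧
    ∀ y, y ∈ orbit ↥(stabilizer Co0 u ⊓ stabilizer Co0 x) (g⁻¹ • (⟨dec root, hroot.1⟩ : leechLattice))
      ↔ g • y ∈ clsHS c := by
  set r : leechLattice := ⟨dec root, hroot.1⟩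
  have hfix : ∀ B ∈ [kD, kQ], Short B := by
    simp only [List.mem_cons, List.not_mem_nil, or_false]
    rintro B (rfl | rfl)
    exacts [short_base.1, short_base.2.2.1]
  have hkey : ∀ k, Fixes [kD, kQ] k → k • bD = bD ∧ k • bQ = bQ := fun k hk =>
    ⟨hk kD (by simp) bD dec_kD.symm, hk kQ (by simp) bQ dec_kQ.symm⟩
  have hfin : (clsHS c).Finite := minSet_finite.subset fun y hy => hy.1
  have hinv : ∀ k, Fixes [kD, kQ] k → ∀ z ∈ clsHS c, k • z ∈ clsHS c :=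
    fun k hk z hz => clsHS_inv (hkey k hk).1 (hkey k hk).2 hz
  have hiff : ∀ y, y ∈ orbit ↥(stabilizer Co0 u ⊓ stabilizer Co0 x) (g⁻¹ • r) ↔ g • y ∈ clsHS c := by
    intro y
    constructor
    · rintro ⟨⟨h, hh⟩, rfl⟩
      obtain ⟨h1, h2⟩ := Subgroup.mem_inf.mp hh
      rw [mem_stabilizer_iff] at h1 h2
      show g • (h • (g⁻¹ • r)) ∈ clsHS c
      rw [← mul_smul, ← mul_smul]
      refine clsHS_inv ?_ ?_ hr
      · rw [mul_smul, mul_smul, ← hgu, inv_smul_smul, h1]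
      · rw [← neg_inj, ← smul_neg', mul_smul, mul_smul, ← hgx, inv_smul_smul, h2]
    · intro hy
      obtain ⟨k, hk, hk'⟩ := orbit_eq hfix hroot ok (clsHS c) hfin hcard hr hinv hr hy
      refine ⟨⟨g⁻¹ * k * g, Subgroup.mem_inf.mpr ⟨?_, ?_⟩⟩, ?_⟩
      · rw [mem_stabilizer_iff, mul_smul, mul_smul, hgu, (hkey k hk).1, ← hgu, inv_smul_smul]
      · rw [mem_stabilizer_iff, mul_smul, mul_smul, hgx, smul_neg' k, (hkey k hk).2, ← hgx, inv_smul_smul]
      · show (g⁻¹ * k * g) • (g⁻¹ • r) = y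
        rw [mul_smul, mul_smul, smul_inv_smul, hk', inv_smul_smul]
  exact ⟨(transport g hiff).trans hcard, hiff⟩

theorem short_HS : Short treeHS352Root ∧ Short treeHS1100Root ∧ Short treeHS4125Root ∧ Short treeHS5600Root :=
  ⟨⟨mem_of_inL (by decide +kernel), by decide +kernel⟩, ⟨mem_of_inL (by decide +kernel), by decide +kernel⟩,
    ⟨mem_of_inL (by decide +kernel), by decide +kernel⟩, ⟨mem_of_inL (by decide +kernel), by decide +kernel⟩⟩

theorem root_HS :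
    ((⟨dec treeHS352Root, short_HS.1.1⟩ : leechLattice) ∈ clsHS 8) ∧
    ((⟨dec treeHS1100Root, short_HS.2.1.1⟩ : leechLattice) ∈ clsHS (-16)) ∧
    ((⟨dec treeHS4125Root, short_HS.2.2.1.1⟩ : leechLattice) ∈ clsHS 0) ∧
    ((⟨dec treeHS5600Root, short_HS.2.2.2.1⟩ : leechLattice) ∈ clsHS (-8)) := by
  show (Cfsg.sqNorm (dec treeHS352Root) = 32 ∧ dotInt vD (dec treeHS352Root) = -16 ∧
      dotInt (bQ : GolayPt → ℤ) (dec treeHS352Root) = 8) ∧
    (Cfsg.sqNorm (dec treeHS1100Root) = 32 ∧ dotInt vD (dec treeHS1100Root) = -16 ∧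
      dotInt (bQ : GolayPt → ℤ) (dec treeHS1100Root) = -16) ∧
    (Cfsg.sqNorm (dec treeHS4125Root) = 32 ∧ dotInt vD (dec treeHS4125Root) = -16 ∧
      dotInt (bQ : GolayPt → ℤ) (dec treeHS4125Root) = 0) ∧
    (Cfsg.sqNorm (dec treeHS5600Root) = 32 ∧ dotInt vD (dec treeHS5600Root) = -16 ∧
      dotInt (bQ : GolayPt → ℤ) (dec treeHS5600Root) = -8)
  decide +kernel

theorem neg_bQ_data : Cfsg.sqNorm ((-bQ : leechLattice) : GolayPt → ℤ) = 32 ∧
    dotInt vD ((-bQ : leechLattice) : GolayPt → ℤ) = -16 ∧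
    dotInt (bQ : GolayPt → ℤ) ((-bQ : leechLattice) : GolayPt → ℤ) = -32 := by
  decide +kernel

theorem minus16_cover {z : leechLattice} (hn : Cfsg.sqNorm (z : GolayPt → ℤ) = 32)
    (hd : dotInt vD (z : GolayPt → ℤ) = -16) :
    z = -bQ ∨ z ∈ clsHS 8 ∨ z ∈ clsHS (-16) ∨ z ∈ clsHS 0 ∨ z ∈ clsHS (-8) := by
  set T : Set leechLattice := {z | Cfsg.sqNorm (z : GolayPt → ℤ) = 32 ∧ dotInt vD (z : GolayPt → ℤ) = -16}
  have hfin : T.Finite := minSet_finite.subset fun y hy => hy.1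
  have hT : T.ncard = 11178 := six_minus_count bD vD_ok.2.1
  have hsubc : ∀ c, clsHS c ⊆ T := fun c y hy => ⟨hy.1, hy.2.1⟩
  have hfc : ∀ c, (clsHS c).Finite := fun c => hfin.subset (hsubc c)
  have hdis : ∀ a b, a ≠ b → Disjoint (clsHS a) (clsHS b) := fun a b hab =>
    Set.disjoint_left.mpr fun y h1 h2 => hab (h1.2.2.symm.trans h2.2.2)
  have hnot : ∀ c, c ≠ -32 → -bQ ∉ clsHS c := fun c hc h => hc (h.2.2.symm.trans neg_bQ_data.2.2)
  set U := insert (-bQ) (clsHS 8 ∪ clsHS (-16) ∪ (clsHS 0 ∪ clsHS (-8)))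
  have hsub : U ⊆ T := Set.insert_subset ⟨neg_bQ_data.1, neg_bQ_data.2.1⟩
    (Set.union_subset (Set.union_subset (hsubc _) (hsubc _)) (Set.union_subset (hsubc _) (hsubc _)))
  have hU : U.ncard = 11178 := by
    rw [Set.ncard_insert_of_notMem (by
        rintro ((h | h) | (h | h)) <;> exact hnot _ (by norm_num) h)
        (((hfc _).union (hfc _)).union ((hfc _).union (hfc _))),
      Set.ncard_union_eq ?_ ((hfc _).union (hfc _)) ((hfc _).union (hfc _)),
      Set.ncard_union_eq (hdis _ _ (by norm_num)) (hfc _) (hfc _),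
      Set.ncard_union_eq (hdis _ _ (by norm_num)) (hfc _) (hfc _)]
    · simp only [clsHS_card, count_HS]
    · refine Set.disjoint_union_left.mpr ⟨?_, ?_⟩ <;>
        exact Set.disjoint_union_right.mpr ⟨hdis _ _ (by norm_num), hdis _ _ (by norm_num)⟩
  have hz : z ∈ U := by
    rw [Set.eq_of_subset_of_ncard_le hsub (by omega) hfin]
    exact ⟨hn, hd⟩
  rcases hz with h | (h | h) | (h | h) <;> tauto

theorem co3_rank_five {u x : leechLattice} (hu : Cfsg.sqNorm (u : GolayPt → ℤ) = 48)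
    {S : Set leechLattice} (hS : S = {x : leechLattice | Cfsg.sqNorm (x : GolayPt → ℤ) = 32 ∧
      dotInt (u : GolayPt → ℤ) (x : GolayPt → ℤ) = -16}) (hx : x ∈ S) :
    ∃ y₁ ∈ S, ∃ y₂ ∈ S, ∃ y₃ ∈ S, ∃ y₄ ∈ S,
      (orbit ↥(stabilizer Co0 u ⊓ stabilizer Co0 x) y₁).ncard = 352 ∧
      (orbit ↥(stabilizer Co0 u ⊓ stabilizer Co0 x) y₂).ncard = 1100 ∧
      (orbit ↥(stabilizer Co0 u ⊓ stabilizer Co0 x) y₃).ncard = 4125 ∧
      (orbit ↥(stabilizer Co0 u ⊓ stabilizer Co0 x) y₄).ncard = 5600 ∧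
      S = {x} ∪ orbit ↥(stabilizer Co0 u ⊓ stabilizer Co0 x) y₁ ∪ orbit ↥(stabilizer Co0 u ⊓ stabilizer Co0 x) y₂ ∪
        orbit ↥(stabilizer Co0 u ⊓ stabilizer Co0 x) y₃ ∪ orbit ↥(stabilizer Co0 u ⊓ stabilizer Co0 x) y₄ := by
  obtain ⟨g₀, hg₀⟩ := transitive48 u bD hu vD_ok.2.1
  subst hS
  obtain ⟨l, hl, hlx⟩ := six_minus_transitive bD (g₀ • x) (-bQ) vD_ok.2.1 ((norm_smul' g₀ x).trans hx.1)
    (by rw [← hg₀, dot_smul]; exact hx.2) neg_bQ_data.1 neg_bQ_data.2.1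
  set g := l * g₀ with hgdef
  have hgu : g • u = bD := by rw [hgdef, mul_smul, hg₀, hl]
  have hgx : g • x = -bQ := by rw [hgdef, mul_smul, hlx]
  have hmem : ∀ y : leechLattice, (Cfsg.sqNorm (y : GolayPt → ℤ) = 32 ∧ dotInt (u : GolayPt → ℤ) y = -16) ↔
      (Cfsg.sqNorm ((g • y : leechLattice) : GolayPt → ℤ) = 32 ∧ dotInt vD ((g • y : leechLattice) : GolayPt → ℤ) = -16) := by
    intro y
    rw [norm_smul', show vD = ((g • u : leechLattice) : GolayPt → ℤ) by rw [hgu], dot_smul]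
  obtain ⟨c1, c2, c3, c4⟩ := count_HS
  obtain ⟨r1, r2, r3, r4⟩ := root_HS
  obtain ⟨n1, o1⟩ := stab_orbit hgu hgx short_HS.1 treeHS352_ok ((clsHS_card _).trans c1) r1
  obtain ⟨n2, o2⟩ := stab_orbit hgu hgx short_HS.2.1 treeHS1100_ok ((clsHS_card _).trans c2) r2
  obtain ⟨n3, o3⟩ := stab_orbit hgu hgx short_HS.2.2.1 treeHS4125_ok ((clsHS_card _).trans c3) r3
  obtain ⟨n4, o4⟩ := stab_orbit hgu hgx short_HS.2.2.2 treeHS5600_ok ((clsHS_card _).trans c4) r4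
  have hin : ∀ {c : ℤ} {y : leechLattice}, g • y ∈ clsHS c → Cfsg.sqNorm (y : GolayPt → ℤ) = 32 ∧
      dotInt (u : GolayPt → ℤ) y = -16 := fun h => (hmem _).mpr ⟨h.1, h.2.1⟩
  refine ⟨_, hin ((o1 _).mp (mem_orbit_self _)), _, hin ((o2 _).mp (mem_orbit_self _)),
    _, hin ((o3 _).mp (mem_orbit_self _)), _, hin ((o4 _).mp (mem_orbit_self _)), n1, n2, n3, n4, ?_⟩
  ext y
  simp only [Set.mem_ofPred_eq, Set.mem_union, Set.mem_singleton_iff, o1, o2, o3, o4]
  constructor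
  · intro hy
    have hc := minus16_cover ((hmem y).mp hy).1 ((hmem y).mp hy).2
    rw [← hgx, smul_left_cancel_iff] at hc
    rcases hc with h | h | h | h | h
    · exact Or.inl (Or.inl (Or.inl (Or.inl h)))
    · exact Or.inl (Or.inl (Or.inl (Or.inr h)))
    · exact Or.inl (Or.inl (Or.inr h))
    · exact Or.inl (Or.inr h)
    · exact Or.inr h
  · rintro ((((rfl | h) | h) | h) | h)
    · exact hx
    all_goals exact hin h

end Cfsg.Lib.Leech.Stab
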