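import Cfsg.Agent.Leech.Stab.Configurations
import Cfsg.Agent.Leech.Stab.DataPoint

/-!
# The point stabiliser on the 275 points
-/

set_option autoImplicit false
set_option linter.style.haveILetI false

namespace Cfsg.Lib.Leech.Stab

open Cfsg Cfsg.Lib.Golay Finset MulAction

theorem le_ncard_of_orbit {fixed : List ℕ} {gens : List (List Atom)} {root n : ℕ} {t : NT}
    (hfix : ∀ B ∈ fixed, Short B) (hroot : Short root) (ok : orbitOK fixed gens root n t = true)
    (S : Set leechLattice) (hfin : S.Finite) (hr : ⟨dec root, hroot.1⟩ ∈ S)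
    (hinv : ∀ g, Fixes fixed g → ∀ x ∈ S, g • x ∈ S) : n ≤ S.ncard := by
  classical
  obtain ⟨hnd, hlen, hrel, hmem⟩ := orbit_sound hfix hroot ok
  have hsub : {x : leechLattice | (x : GolayPt → ℤ) ∈ t.vecs} ⊆ S := fun x hx => by
    obtain ⟨g, hg, he⟩ := hrel _ hx
    have : x = g • (⟨dec root, hroot.1⟩ : leechLattice) := Subtype.ext (he ⟨dec root, hroot.1⟩ rfl).symm
    rw [this]
    exact hinv g hg _ hr
  refine le_trans ?_ (Set.ncard_le_ncard hsub hfin)
  rw [← hlen, ← List.toFinset_card_of_nodup hnd, ← Set.ncard_coe_finset,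
    ← Set.ncard_image_of_injective {x : leechLattice | (x : GolayPt → ℤ) ∈ t.vecs} Subtype.val_injective]
  refine Set.ncard_le_ncard (fun x hx => ?_) ((hfin.subset hsub).image _)
  have hx' := List.mem_toFinset.mp (Finset.mem_coe.mp hx)
  exact ⟨⟨x, hmem x hx'⟩, hx', rfl⟩

theorem short_point : Short treeX112Root ∧ Short treeX162Root :=
  ⟨⟨mem_of_inL (by decide +kernel), by decide +kernel⟩, ⟨mem_of_inL (by decide +kernel), by decide +kernel⟩⟩

/-- The base point. -/
noncomputable def ptX : leechLattice := ⟨dec treePRoot, short_base.2.2.2.1.1⟩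

/-- The 275 points of the base configuration. -/
def pts275 : Set leechLattice :=
  {y | Cfsg.sqNorm (y : GolayPt → ℤ) = 32 ∧ dotInt vD (y : GolayPt → ℤ) = 24 ∧ dotInt (bP : GolayPt → ℤ) y = 16}

theorem pts275_card : pts275.ncard = 275 := by
  rw [← count_DP, ← census2P fun a => a.1 == 24 && a.2 == 16]
  congr 1
  ext y
  simp [pts275, dec_kD, dec_kP]

theorem pts275_dots : Cfsg.sqNorm (ptX : GolayPt → ℤ) = 32 ∧ dotInt vD (ptX : GolayPt → ℤ) = 24 ∧
    dotInt (bP : GolayPt → ℤ) ptX = 16 := by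
  show Cfsg.sqNorm (dec treePRoot) = 32 ∧ dotInt vD (dec treePRoot) = 24 ∧ dotInt (bP : GolayPt → ℤ) (dec treePRoot) = 16
  decide +kernel

theorem point_orbits :
    {y | y ∈ pts275 ∧ dotInt (ptX : GolayPt → ℤ) y = 8}.ncard = 112 ∧
    {y | y ∈ pts275 ∧ y ≠ ptX ∧ dotInt (ptX : GolayPt → ℤ) y = 16}.ncard = 162 ∧
    ∀ y ∈ pts275, ∀ y' ∈ pts275, y ≠ ptX → y' ≠ ptX → dotInt (ptX : GolayPt → ℤ) y = dotInt (ptX : GolayPt → ℤ) y' →
      ∃ k : Co0, k • bD = bD ∧ k • bP = bP ∧ k • ptX = ptX ∧ k • y = y' := by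
  classical
  set A := {y | y ∈ pts275 ∧ dotInt (ptX : GolayPt → ℤ) y = 8}
  set B := {y | y ∈ pts275 ∧ y ≠ ptX ∧ dotInt (ptX : GolayPt → ℤ) y = 16}
  have hfin : pts275.Finite := minSet_finite.subset fun y hy => hy.1
  have hAT : A ⊆ pts275 := fun y hy => hy.1
  have hBT : B ⊆ pts275 := fun y hy => hy.1
  have hkey : ∀ k, Fixes [kD, kP, treePRoot] k → k • bD = bD ∧ k • bP = bP ∧ k • ptX = ptX := fun k hk =>
    ⟨hk kD (by simp) bD dec_kD.symm, hk kP (by simp) bP dec_kP.symm, hk treePRoot (by simp) ptX rfl⟩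
  have hT : ∀ k, Fixes [kD, kP, treePRoot] k → ∀ z : leechLattice,
      (k • z ∈ pts275 ↔ z ∈ pts275) ∧
      dotInt (ptX : GolayPt → ℤ) ((k • z : leechLattice) : GolayPt → ℤ) = dotInt (ptX : GolayPt → ℤ) z := by
    intro k hk z
    obtain ⟨h1, h2, h3⟩ := hkey k hk
    have e1 := dot_smul k bD z
    have e2 := dot_smul k bP z
    have e3 := dot_smul k ptX z
    rw [h1] at e1
    rw [h2] at e2
    rw [h3] at e3
    change dotInt vD _ = dotInt vD _ at e1
    exact ⟨by simp only [pts275, Set.mem_ofPred_eq, norm_smul', e1, e2], e3⟩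
  have hfix : ∀ C ∈ [kD, kP, treePRoot], Short C := by
    simp only [List.mem_cons, List.not_mem_nil, or_false]
    rintro C (rfl | rfl | rfl)
    exacts [short_base.1, short_base.2.1, short_base.2.2.2.1]
  have hrA : (⟨dec treeX112Root, short_point.1.1⟩ : leechLattice) ∈ A := by
    show (Cfsg.sqNorm (dec treeX112Root) = 32 ∧ dotInt vD (dec treeX112Root) = 24 ∧
      dotInt (bP : GolayPt → ℤ) (dec treeX112Root) = 16) ∧ dotInt (dec treePRoot) (dec treeX112Root) = 8
    decide +kernel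
  have hrB : (⟨dec treeX162Root, short_point.2.1⟩ : leechLattice) ∈ B := by
    have h : (Cfsg.sqNorm (dec treeX162Root) = 32 ∧ dotInt vD (dec treeX162Root) = 24 ∧
      dotInt (bP : GolayPt → ℤ) (dec treeX162Root) = 16) ∧ dotInt (dec treePRoot) (dec treeX162Root) = 16 := by
      decide +kernel
    refine ⟨h.1, fun e => ?_, h.2⟩
    have h2 : dotInt (ptX : GolayPt → ℤ) ptX = 16 := by
      have := h.2
      rw [show dec treeX162Root = (ptX : GolayPt → ℤ) from congrArg Subtype.val e] at this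
      exact this
    rw [← sqNorm_eq_dot, pts275_dots.1] at h2
    omega
  have hiA : ∀ k, Fixes [kD, kP, treePRoot] k → ∀ x ∈ A, k • x ∈ A := fun k hk x hx =>
    ⟨(hT k hk x).1.mpr hx.1, (hT k hk x).2.trans hx.2⟩
  have hiB : ∀ k, Fixes [kD, kP, treePRoot] k → ∀ x ∈ B, k • x ∈ B := fun k hk x hx =>
    ⟨(hT k hk x).1.mpr hx.1, fun e => hx.2.1 (MulAction.injective k (e.trans (hkey k hk).2.2.symm)),
      (hT k hk x).2.trans hx.2.2⟩
  have hA := le_ncard_of_orbit hfix short_point.1 treeX112_ok A (hfin.subset hAT) hrA hiA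
  have hB := le_ncard_of_orbit hfix short_point.2 treeX162_ok B (hfin.subset hBT) hrB hiB
  have hd : Disjoint A B := Set.disjoint_left.mpr fun y h1 h2 => by
    have e1 := h1.2
    have e2 := h2.2.2
    omega
  have hsub : insert ptX (A ∪ B) ⊆ pts275 := Set.insert_subset pts275_dots (Set.union_subset hAT hBT)
  have hnin : ptX ∉ A ∪ B := by
    rintro (h | h)
    · have h8 := h.2
      rw [← sqNorm_eq_dot, pts275_dots.1] at h8
      omega
    · exact h.2.1 rfl
  have hle := Set.ncard_le_ncard hsub hfin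
  have hc : (insert ptX (A ∪ B)).ncard = A.ncard + B.ncard + 1 := by
    rw [Set.ncard_insert_of_notMem hnin ((hfin.subset hAT).union (hfin.subset hBT)),
      Set.ncard_union_eq hd (hfin.subset hAT) (hfin.subset hBT)]
  rw [hc, pts275_card] at hle
  have hA' : A.ncard = 112 := by omega
  have hB' : B.ncard = 162 := by omega
  refine ⟨hA', hB', fun y hy y' hy' hne hne' he => ?_⟩
  have hcover : pts275 = insert ptX (A ∪ B) :=
    (Set.eq_of_subset_of_ncard_le hsub (by rw [hc, pts275_card]; omega) hfin).symm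
  have key : ∃ k, Fixes [kD, kP, treePRoot] k ∧ k • y = y' := by
    rw [hcover] at hy hy'
    replace hy : y ∈ A ∨ y ∈ B := hy.resolve_left hne
    replace hy' : y' ∈ A ∨ y' ∈ B := hy'.resolve_left hne'
    rcases hy with h | h <;> rcases hy' with h' | h'
    · exact orbit_eq hfix short_point.1 treeX112_ok A (hfin.subset hAT) hA' hrA hiA h h'
    · have e1 := h.2; have e2 := h'.2.2; omega
    · have e1 := h.2.2; have e2 := h'.2; omega
    · exact orbit_eq hfix short_point.2 treeX162_ok B (hfin.subset hBT) hB' hrB hiB h h'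
  obtain ⟨k, hk, hk'⟩ := key
  obtain ⟨h1, h2, h3⟩ := hkey k hk
  exact ⟨k, h1, h2, h3, hk'⟩

theorem s1581 (u v x : leechLattice) (hu : Cfsg.sqNorm (u : GolayPt → ℤ) = 48)
    (hv : Cfsg.sqNorm (v : GolayPt → ℤ) = 32) (huv : dotInt (u : GolayPt → ℤ) v = 24)
    (hxn : Cfsg.sqNorm (x : GolayPt → ℤ) = 32) (hxu : dotInt (u : GolayPt → ℤ) x = 24)
    (hxv : dotInt (v : GolayPt → ℤ) x = 16)
    {S : Set leechLattice} (hS : ∀ y, y ∈ S ↔ Cfsg.sqNorm (y : GolayPt → ℤ) = 32 ∧
      dotInt (u : GolayPt → ℤ) y = 24 ∧ dotInt (v : GolayPt → ℤ) y = 16) :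
    {y | y ∈ S ∧ dotInt (x : GolayPt → ℤ) y = 8}.ncard = 112 ∧
    {y | y ∈ S ∧ y ≠ x ∧ dotInt (x : GolayPt → ℤ) y = 16}.ncard = 162 ∧
    ∀ y ∈ S, ∀ y' ∈ S, y ≠ x → y' ≠ x → dotInt (x : GolayPt → ℤ) y = dotInt (x : GolayPt → ℤ) y' →
      ∃ g : Co0, g • u = u ∧ g • v = v ∧ g • x = x ∧ g • y = y' := by
  obtain ⟨g₀, hgu, hgv⟩ := to_DP u v hu hv huv
  have hmem : ∀ (g : Co0), g • u = bD → g • v = bP → ∀ y, y ∈ S ↔ g • y ∈ pts275 := fun g h1 h2 y => by
    simp only [hS, pts275, Set.mem_ofPred_eq, norm_smul']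
    rw [show vD = ((g • u : leechLattice) : GolayPt → ℤ) by rw [h1], ← h2, dot_smul, dot_smul]
  have hx0 : g₀ • x ∈ pts275 := (hmem g₀ hgu hgv x).mp ((hS x).mpr ⟨hxn, hxu, hxv⟩)
  obtain ⟨k, hk, hkx⟩ := orbit_eq (fixed := [kD, kP])
    (by simp only [List.mem_cons, List.not_mem_nil, or_false]; rintro B (rfl | rfl); exacts [short_base.1, short_base.2.1])
    short_base.2.2.2.1 treeP_ok pts275 (minSet_finite.subset fun y hy => hy.1) pts275_card
    pts275_dots
    (fun k hk y hy => by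
      simp only [pts275, Set.mem_ofPred_eq, norm_smul'] at hy ⊢
      rw [← dot_smul k bP y, hk kP (by simp) bP dec_kP.symm] at hy
      have e := dot_smul k bD y
      rw [hk kD (by simp) bD dec_kD.symm] at e
      exact ⟨hy.1, e.trans hy.2.1, hy.2.2⟩)
    hx0 (pts275_dots : ptX ∈ pts275)
  set g := k * g₀ with hgdef
  have h1 : g • u = bD := by rw [hgdef, mul_smul, hgu, hk kD (by simp) bD dec_kD.symm]
  have h2 : g • v = bP := by rw [hgdef, mul_smul, hgv, hk kP (by simp) bP dec_kP.symm]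
  have h3 : g • x = ptX := by rw [hgdef, mul_smul, hkx]
  have hd : ∀ y : leechLattice, dotInt (ptX : GolayPt → ℤ) ((g • y : leechLattice) : GolayPt → ℤ) = dotInt (x : GolayPt → ℤ) y :=
    fun y => by rw [← h3, dot_smul]
  have hne : ∀ y, g • y ≠ ptX ↔ y ≠ x := fun y => by rw [← h3]; exact (MulAction.injective g).ne_iff
  obtain ⟨cA, cB, htr⟩ := point_orbits
  refine ⟨(transport g fun y => ?_).trans cA, (transport g fun y => ?_).trans cB, fun y hy y' hy' hyx hyx' he => ?_⟩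
  · simp only [Set.mem_ofPred_eq, hd, hmem g h1 h2]
  · simp only [Set.mem_ofPred_eq, hd, hmem g h1 h2, hne]
  obtain ⟨l, l1, l2, l3, l4⟩ := htr _ ((hmem g h1 h2 y).mp hy) _ ((hmem g h1 h2 y').mp hy') ((hne y).mpr hyx)
    ((hne y').mpr hyx') (by rw [hd, hd, he])
  refine ⟨g⁻¹ * l * g, ?_, ?_, ?_, ?_⟩
  · rw [mul_smul, mul_smul, h1, l1, ← h1, inv_smul_smul]
  · rw [mul_smul, mul_smul, h2, l2, ← h2, inv_smul_smul]
  · rw [mul_smul, mul_smul, h3, l3, ← h3, inv_smul_smul]
  · rw [mul_smul, mul_smul, l4, inv_smul_smul]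

end Cfsg.Lib.Leech.Stab
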