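import Cfsg.Agent.Leech.Stab.Census

/-!
# The vectors of least norm sorted by two coordinates and the coordinate sum

The inner products with the base vectors only depend on these three numbers.
-/

set_option autoImplicit false
set_option linter.style.haveILetI false

namespace Cfsg.Lib.Leech.Stab

open Cfsg Cfsg.Lib.Golay Finset

/-- The sum and two distinguished coordinates. -/
def tri (x : GolayPt → ℤ) : ℤ × ℤ × ℤ := (∑ p, x p, x none, x (some 0))

/-- The positions other than the first and the last. -/
def mid : List ℕ := (List.range 22).map Nat.succ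

theorem range_split : List.range 24 = 0 :: (mid ++ [23]) := by decide +kernel

theorem mem_mid {p : ℕ} : p ∈ mid → p ≠ 0 ∧ p ≠ 23 := by
  intro h
  obtain ⟨q, hq, rfl⟩ := List.mem_map.mp h
  have := List.mem_range.mp hq
  omega

/-- The class of a code word. -/
def oddCls (c : ℕ) : ℕ × Bool × Bool := (mid.countP fun i => c.testBit i, c.testBit 23, c.testBit 0)

/-- The sign of a bit. -/
def bsgn (b : Bool) : ℤ := if b then -1 else 1

/-- The count of one class of code words. -/
def oddCount (P : ℤ × ℤ × ℤ → Bool) (k : ℕ × Bool × Bool) : ℕ :=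
  (fun D n z =>
    (if P (D - 4 * z, n, -3 * z) then 1 else 0) + (if P (D - 4 * n, -3 * n, z) then 1 else 0) +
      (if P (D + 4, n, z) then k.1 else 0) + (if P (D - 4, n, z) then 22 - k.1 else 0))
  (22 - 2 * (k.1 : ℤ) + bsgn k.2.1 + bsgn k.2.2) (bsgn k.2.1) (bsgn k.2.2)

theorem bsgn_eq (c i : ℕ) : bsgn (c.testBit i) = sgn c i := rfl

theorem countP_two {α : Type*} (b : α → Bool) (f : Bool → Bool) : ∀ l : List α,
    l.countP (fun a => f (b a)) = (if f true then l.countP b else 0) + (if f false then l.length - l.countP b else 0)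
  | [] => by simp
  | a :: l => by
    have h := List.countP_le_length (p := b) (l := l)
    rw [List.countP_cons, List.countP_cons, countP_two b f l, List.length_cons]
    cases b a <;> cases hf : f false <;> cases ht : f true <;> simp [hf, ht] <;> omega

theorem sum_sgn (c : ℕ) : ∀ l : List ℕ, (l.map (sgn c)).sum = (l.length : ℤ) - 2 * l.countP fun i => c.testBit i
  | [] => rfl
  | a :: l => by
    rw [List.map_cons, List.sum_cons, sum_sgn c l, List.countP_cons, List.length_cons, sgn]
    cases c.testBit a <;> simp <;> ring

theorem pidx_special : pidx (none : GolayPt) = 23 ∧ pidx (some 0 : GolayPt) = 0 := ⟨rfl, rfl⟩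

theorem tri_odd (c p : ℕ) (hp : p < 24) : tri (oddVec c p) =
    ((22 - 2 * (oddCls c).1 : ℤ) + sgn c 23 + sgn c 0 - 4 * sgn c p,
      sgn c 23 * (if 23 = p then -3 else 1), sgn c 0 * (if 0 = p then -3 else 1)) := by
  refine Prod.ext ?_ rfl
  show ∑ k, oddVec c p k = _
  simp only [oddVec]
  rw [sum_pts fun i => sgn c i * if i = p then -3 else 1]
  have e : ∀ i, (sgn c i * if i = p then -3 else 1) = sgn c i + if i = p then -4 * sgn c p else 0 := fun i => by
    by_cases h : i = p
    · subst h; simp only [if_true]; ring
    · simp only [if_neg h]; ring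
  simp only [e, List.sum_map_add]
  rw [show ((List.range 24).map fun i => if i = p then -4 * sgn c p else 0).sum = -4 * sgn c p by
    show ∑ i ∈ Finset.range 24, (if i = p then -4 * sgn c p else (0 : ℤ)) = _
    rw [Finset.sum_ite_eq', if_pos (Finset.mem_range.mpr hp)],
    range_split, List.map_cons, List.sum_cons, List.map_append, List.sum_append, sum_sgn c mid,
    List.map_singleton, List.sum_singleton]
  have : mid.length = 22 := by simp [mid]
  rw [this]
  simp only [oddCls]
  push_cast
  ring

theorem odd_word (P : ℤ × ℤ × ℤ → Bool) (c : ℕ) :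
    ((List.range 24).map fun p => oddVec c p).countP (fun x => P (tri x)) = oddCount P (oddCls c) := by
  rw [List.countP_map]
  set D : ℤ := 22 - 2 * ((oddCls c).1 : ℤ) + sgn c 23 + sgn c 0 with hD
  have h0 : tri (oddVec c 0) = (D - 4 * sgn c 0, sgn c 23, -3 * sgn c 0) := by
    rw [tri_odd c 0 (by norm_num)]; simp [hD, mul_comm]
  have h23 : tri (oddVec c 23) = (D - 4 * sgn c 23, -3 * sgn c 23, sgn c 0) := by
    rw [tri_odd c 23 (by norm_num)]; simp [hD, mul_comm]
  have hmid : ∀ p ∈ mid, tri (oddVec c p) = (D - 4 * bsgn (c.testBit p), sgn c 23, sgn c 0) := fun p hp => by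
    obtain ⟨n0, n23⟩ := mem_mid hp
    have : p < 24 := by obtain ⟨q, hq, rfl⟩ := List.mem_map.mp hp; have := List.mem_range.mp hq; omega
    rw [tri_odd c p this, bsgn_eq, if_neg (Ne.symm n23), if_neg (Ne.symm n0), mul_one, mul_one, hD]
  simp only [range_split, List.countP_cons, List.countP_append, List.countP_nil, Function.comp_apply, h0, h23]
  rw [List.countP_congr (l := mid) (q := fun p => P (D - 4 * bsgn (c.testBit p), sgn c 23, sgn c 0))
      (fun p hp => by simp only [Function.comp_apply, hmid p hp]),
    countP_two (fun p => c.testBit p) (fun b => P (D - 4 * bsgn b, sgn c 23, sgn c 0)) mid]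
  have hl : mid.length = 22 := by simp [mid]
  rcases Bool.eq_false_or_eq_true (c.testBit 23) with h1 | h1 <;>
    rcases Bool.eq_false_or_eq_true (c.testBit 0) with h2 | h2 <;>
    simp [oddCount, oddCls, hl, bsgn, sgn, hD, h1, h2] <;> omega

/-- A unit triple. -/
def unitT (i : ℕ) : ℤ × ℤ × ℤ := (1, if i = 23 then 1 else 0, if i = 0 then 1 else 0)

/-- The triples of the sign patterns. -/
def valsT : List (ℤ × ℤ × ℤ) → Bool → List (ℤ × ℤ × ℤ)
  | [], b => if b then [] else [0]
  | a :: l, b => (valsT l b).map (fun d => a + a + d) ++ (valsT l (!b)).map (fun d => -(a + a) + d)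

theorem valsT_eq : ∀ (l : List ℕ), l.Nodup → ∀ b,
    valsT (l.map unitT) b = (subs l b).map fun e => (l.map fun i => (2 * sgn e i) • unitT i).sum
  | [], _, b => by cases b <;> simp [valsT, subs]
  | x :: l, hnd, b => by
    obtain ⟨hx, hnd'⟩ := List.nodup_cons.mp hnd
    simp only [valsT, subs, List.map_cons, List.map_append, List.map_map, valsT_eq l hnd']
    congr 1
    · refine List.map_congr_left fun e he => ?_
      have h : sgn e x = 1 := if_neg fun ht => hx (subs_bits l b e he x ht)
      simp only [Function.comp_apply, List.sum_cons, h, mul_one, two_zsmul]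
    · refine List.map_congr_left fun e he => ?_
      have h : sgn (e ||| 2 ^ x) x = -1 := by simp [sgn, Nat.testBit_or]
      have h' : ∀ i ∈ l, (2 * sgn (e ||| 2 ^ x) i) • unitT i = (2 * sgn e i) • unitT i := fun i hi => by
        have : x ≠ i := fun e => hx (e ▸ hi)
        simp [sgn, Nat.testBit_or, Nat.testBit_two_pow, this]
      simp only [Function.comp_apply, List.sum_cons, h, List.map_congr_left h']
      rw [show ((2 : ℤ) * -1) • unitT x = -(unitT x + unitT x) by
        rw [mul_neg, mul_one, neg_zsmul, two_zsmul]]

theorem fst_sum : ∀ l : List (ℤ × ℤ × ℤ),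
    l.sum = ((l.map fun a => a.1).sum, (l.map fun a => a.2.1).sum, (l.map fun a => a.2.2).sum)
  | [] => rfl
  | a :: l => by rw [List.sum_cons, fst_sum l]; rfl

theorem tri_two (o e : ℕ) : tri (twoSigned o e) = ((bitsOf o).map fun i => (2 * sgn e i) • unitT i).sum := by
  rw [fst_sum, List.map_map, List.map_map, List.map_map]
  simp only [tri, twoSigned]
  refine Prod.ext ?_ (Prod.ext ?_ ?_)
  · rw [sum_pts fun i => if o.testBit i then 2 * sgn e i else 0,
      sum_ite_filter (fun i => 2 * sgn e i) o.testBit]
    exact congrArg List.sum (List.map_congr_left fun i _ => by simp [unitT])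
  all_goals simp only [Function.comp_def, unitT, Prod.smul_snd, Prod.smul_fst, smul_eq_mul, mul_ite, mul_one, mul_zero]
  · rw [bitsOf, ← sum_ite_filter (fun i => if i = 23 then 2 * sgn e i else 0) o.testBit, pidx_special.1]
    show _ = ∑ i ∈ Finset.range 24, if o.testBit i then (if i = 23 then 2 * sgn e i else 0) else 0
    rw [Finset.sum_eq_single 23 (fun b _ hb => by simp [hb]) (fun h => absurd (Finset.mem_range.mpr (by norm_num)) h)]
    simp
  · rw [bitsOf, ← sum_ite_filter (fun i => if i = 0 then 2 * sgn e i else 0) o.testBit, pidx_special.2]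
    show _ = ∑ i ∈ Finset.range 24, if o.testBit i then (if i = 0 then 2 * sgn e i else 0) else 0
    rw [Finset.sum_eq_single 0 (fun b _ hb => by simp [hb]) (fun h => absurd (Finset.mem_range.mpr (by norm_num)) h)]
    simp

theorem two_word (P : ℤ × ℤ × ℤ → Bool) (o : ℕ) :
    ((subs (bitsOf o) false).map fun e => twoSigned o e).countP (fun x => P (tri x)) =
      (valsT ((bitsOf o).map unitT) false).countP P := by
  rw [valsT_eq _ (bitsOf_nodup o), List.countP_map, List.countP_map]
  simp only [Function.comp_def, tri_two]

/-- The triples of the vectors with two coordinates four in absolute value. -/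
def fours : List (ℤ × ℤ × ℤ) :=
  (List.range 24).flatMap fun j => (List.range j).flatMap fun i =>
    ([4, -4] : List ℤ).flatMap fun s => ([4, -4] : List ℤ).map fun t =>
      (s + t, (if 23 = i then s else if 23 = j then t else 0), (if 0 = i then s else if 0 = j then t else 0))

theorem tri_four {i j : ℕ} (hij : i < j) (hj : j < 24) (s t : ℤ) :
    tri (fourVec i j s t) =
      (s + t, (if 23 = i then s else if 23 = j then t else 0), (if 0 = i then s else if 0 = j then t else 0)) := by
  refine Prod.ext ?_ rfl
  show ∑ k, fourVec i j s t k = _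
  simp only [fourVec]
  rw [sum_pts fun k => if k = i then s else if k = j then t else 0]
  have e : ∀ k, (if k = i then s else if k = j then t else 0) =
      (if k = i then s else 0) + if k = j then t else 0 := fun k => by
    by_cases h1 : k = i
    · subst h1; rw [if_pos rfl, if_pos rfl, if_neg (by omega)]; ring
    · rw [if_neg h1, if_neg h1, zero_add]
  simp only [e, List.sum_map_add]
  show (∑ k ∈ Finset.range 24, if k = i then s else 0) + ∑ k ∈ Finset.range 24, (if k = j then t else 0) = _
  rw [Finset.sum_ite_eq', Finset.sum_ite_eq', if_pos (Finset.mem_range.mpr (by omega)),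
    if_pos (Finset.mem_range.mpr hj)]

/-- A table lists every member of a list together with its multiplicity. -/
def tableOK {α : Type*} [DecidableEq α] (l : List α) (tab : List (α × ℕ)) : Bool :=
  decide ((tab.map (·.1)).Nodup) && tab.all (fun e => l.count e.1 == e.2) &&
    l.all (fun a => decide (a ∈ tab.map (·.1)))

theorem table_sum {α : Type*} [DecidableEq α] (f : α → ℕ) {l : List α} {tab : List (α × ℕ)}
    (h : tableOK l tab = true) : (l.map f).sum = (tab.map fun e => e.2 * f e.1).sum := by
  simp only [tableOK, Bool.and_eq_true, List.all_eq_true, decide_eq_true_eq, beq_iff_eq] at h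
  obtain ⟨⟨hnd, hcnt⟩, hmem⟩ := h
  rw [Finset.sum_list_map_count, List.map_congr_left (l := tab) (f := fun e => e.2 * f e.1)
    (g := (fun k => l.count k * f k) ∘ fun e => e.1) fun e he => by simp [hcnt e he],
    ← List.map_map, ← List.sum_toFinset _ hnd]
  refine Finset.sum_subset (fun a ha => ?_) fun a _ ha => ?_
  · exact List.mem_toFinset.mpr (hmem a (List.mem_toFinset.mp ha))
  · rw [List.count_eq_zero_of_not_mem (fun h' => ha (List.mem_toFinset.mpr h'))]; simp

/-- The tally of the code words. -/
def oddTally : List ((ℕ × Bool × Bool) × ℕ) :=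
  [((0, false, false), 1), ((22, true, true), 1), ((16, false, false), 77), ((6, true, true), 77),
   ((15, false, true), 176), ((15, true, false), 176), ((7, false, true), 176), ((7, true, false), 176),
   ((14, true, true), 330), ((8, false, false), 330), ((12, false, false), 616), ((10, true, true), 616),
   ((11, false, true), 672), ((11, true, false), 672)]

/-- The tally of the octads. -/
def octTally : List (List (ℤ × ℤ × ℤ) × ℕ) :=
  [((List.replicate 8 (1, 0, 0)), 330), ((List.replicate 7 (1, 0, 0) ++ [(1, 1, 0)]), 176),
   ((1, 0, 1) :: List.replicate 7 (1, 0, 0), 176), ((1, 0, 1) :: List.replicate 6 (1, 0, 0) ++ [(1, 1, 0)], 77)]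

theorem oddTally_ok : tableOK (codeMasks.map oddCls) oddTally = true := by decide +kernel

theorem octTally_ok : tableOK (octMasks.map fun o => (bitsOf o).map unitT) octTally = true := by decide +kernel

/-- The number of vectors of least norm whose triple satisfies a condition. -/
def countTri (P : ℤ × ℤ × ℤ → Bool) : ℕ :=
  (oddTally.map fun e => e.2 * oddCount P e.1).sum +
  (octTally.map fun e => e.2 * (valsT e.1 false).countP P).sum + fours.countP P

theorem countP_allVecs (P : ℤ × ℤ × ℤ → Bool) : allVecs.countP (fun x => P (tri x)) = countTri P := by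
  simp only [allVecs, List.countP_append, List.countP_flatMap, countTri]
  rw [← table_sum (oddCount P) oddTally_ok, ← table_sum (fun L => (valsT L false).countP P) octTally_ok,
    List.map_map, List.map_map]
  refine congrArg₂ _ (congrArg₂ _ (congrArg List.sum (List.map_congr_left fun c _ => ?_))
    (congrArg List.sum (List.map_congr_left fun o _ => ?_))) ?_
  · exact odd_word P c
  · exact two_word P o
  · simp only [fours, List.countP_flatMap]
    refine congrArg List.sum (List.map_congr_left fun j hj => ?_)
    simp only [Function.comp_apply, List.countP_flatMap]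
    refine congrArg List.sum (List.map_congr_left fun i hi => ?_)
    simp only [Function.comp_apply, List.countP_flatMap]
    refine congrArg List.sum (List.map_congr_left fun s _ => ?_)
    simp only [Function.comp_apply, List.countP_map]
    exact List.countP_congr fun t _ => by
      simp only [Function.comp_apply, tri_four (List.mem_range.mp hi) (List.mem_range.mp hj)]

/-- Counting the vectors of least norm by a condition on the triple. -/
theorem censusTri (P : ℤ × ℤ × ℤ → Bool) :
    {x : leechLattice | Cfsg.sqNorm (x : GolayPt → ℤ) = 32 ∧ P (tri (x : GolayPt → ℤ)) = true}.ncard = countTri P := by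
  classical
  obtain ⟨hnd, hmem⟩ := allVecs_facts
  rw [← countP_allVecs, List.countP_eq_length_filter, ← List.toFinset_card_of_nodup (hnd.filter _),
    ← Set.ncard_coe_finset,
    ← Set.ncard_image_of_injective {x : leechLattice | Cfsg.sqNorm (x : GolayPt → ℤ) = 32 ∧ P (tri (x : GolayPt → ℤ)) = true}
      Subtype.val_injective]
  congr 1
  ext x
  simp only [Set.mem_image, Set.mem_ofPred_eq, Finset.mem_coe, List.mem_toFinset, List.mem_filter, hmem, minSet]
  exact ⟨by rintro ⟨y, ⟨hn, hp⟩, rfl⟩; exact ⟨⟨y.2, hn⟩, hp⟩, fun ⟨⟨hx, hn⟩, hp⟩ => ⟨⟨x, hx⟩, ⟨hn, hp⟩, rfl⟩⟩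

end Cfsg.Lib.Leech.Stab
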